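import Groth.Agent.Limits.BC0.Chart
import Groth.Agent.LocFree.Rank

/-!
# The rank of the direct image at good points
-/

universe u

open CategoryTheory Limits AlgebraicGeometry TopologicalSpace Opposite
open scoped TensorProduct
open Groth.CohBase (preimageToSpec)
open Groth.CohC3.BC
open Groth.FlatCxBase (fdim)

set_option maxHeartbeats 800000
set_option backward.isDefEq.respectTransparency false
set_option backward.defeqAttrib.useBackward true
set_option backward.isDefEq.respectTransparency.types false

namespace Groth.Limits.BC0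

variable {X S : Scheme.{u}} {f : X ⟶ S} [QuasiCompact f] [QuasiSeparated f] {F : X.Modules}
  [F.IsQuasicoherent] {V : S.Opens}
  (M : Model (preimageToSpec f (V := V)) (F.restrict (f ⁻¹ᵁ V).ι))

/-- Sections over a basic open as a kernel. -/
theorem exists_sections0_basicOpen (hV : IsAffineOpen V) (c : Γ(S, V)) :
    letI : Algebra Γ(S, V) Γ(S, S.basicOpen c) :=
      (S.presheaf.map (homOfLE (S.basicOpen_le c)).op).hom.toAlgebra
    Nonempty (LinearMap.ker ((M.d 0).baseChange Γ(S, S.basicOpen c)) ≃ₗ[Γ(S, S.basicOpen c)]
      Γ((Scheme.Modules.pushforward f).obj F, S.basicOpen c)) := by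
  let R := (Scheme.Modules.pushforward f).obj F
  have : R.IsQuasicoherent := QCohMod.isQCoh_pushforward F f
  letI : Algebra Γ(S, V) Γ(S, S.basicOpen c) :=
    (S.presheaf.map (homOfLE (S.basicOpen_le c)).op).hom.toAlgebra
  have : IsLocalization.Away c Γ(S, S.basicOpen c) := hV.isLocalization_basicOpen c
  have : Module.Flat Γ(S, V) Γ(S, S.basicOpen c) :=
    IsLocalization.flat Γ(S, S.basicOpen c) (Submonoid.powers c)
  letI := Groth.PropsBasic.FPSections.resModule R c
  have : IsScalarTower Γ(S, V) Γ(S, S.basicOpen c) Γ(R, S.basicOpen c) :=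
    IsScalarTower.of_algebraMap_smul fun _ _ => rfl
  have := Groth.PropsBasic.FPSections.isLocalizedModule_resₗ R hV c
  let e := (IsLocalizedModule.isBaseChange (Submonoid.powers c) Γ(S, S.basicOpen c)
    (Groth.PropsBasic.FPSections.resₗ R c)).equiv
  exact ⟨(LinearEquiv.ofBijective _ (kerBC_bijective_of_flat_algebra (f := M.d 0)
    Γ(S, S.basicOpen c))).symm.trans
      ((TensorProduct.congr (LinearEquiv.refl Γ(S, V) Γ(S, S.basicOpen c))
        (secEquiv0 M)).toAddEquiv.toLinearEquiv (fun a z => by
          induction z using TensorProduct.induction_on with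
          | zero => simp
          | tmul a x => rfl
          | add a b ha hb => simp only [smul_add, map_add]; exact congrArg₂ (· + ·) ha hb) ≪≫ₗ e)⟩

/-- At a good point the rank of the direct image is the rank of the cohomology of the fibre. -/
theorem finrank_stalk_of_goodAt {X S : Scheme.{u}} {f : X ⟶ S} [IsProper f] {F : X.Modules}
    [F.IsQuasicoherent] {t : S} (h : GoodAt f F t)
    (hfree : FlatMod.IsFinLocFree ((Scheme.Modules.pushforward f).obj F)) :
    Module.finrank (S.presheaf.stalk t) (((Scheme.Modules.pushforward f).obj F).presheaf.stalk t) =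
      CohIII.fiberRank f F 0 t := by
  obtain ⟨V, hV, M, c, htc, hc⟩ := h
  let R := (Scheme.Modules.pushforward f).obj F
  have htV : t ∈ V := S.basicOpen_le c htc
  letI : Algebra Γ(S, V) Γ(S, S.basicOpen c) :=
    (S.presheaf.map (homOfLE (S.basicOpen_le c)).op).hom.toAlgebra
  let C := Γ(S, S.basicOpen c)
  have : IsLocalization.Away c C := hV.isLocalization_basicOpen c
  letI aK : Algebra C (S.residueField t) := (S.evaluation (S.basicOpen c) t htc).hom.toAlgebra
  letI aA : Algebra Γ(S, V) (S.residueField t) := (S.evaluation V t htV).hom.toAlgebra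
  have : IsScalarTower Γ(S, V) C (S.residueField t) := IsScalarTower.of_algebraMap_eq fun a => by
    change (S.evaluation V t htV).hom a = (S.evaluation (S.basicOpen c) t htc).hom
      ((S.presheaf.map (homOfLE (S.basicOpen_le c)).op).hom a)
    rw [← Scheme.germ_residue, ← Scheme.germ_residue]
    simp only [CommRingCat.comp_apply]
    rw [TopCat.Presheaf.germ_res_apply]
  have := M.finitePresentation 0
  have := M.finitePresentation 1
  have := M.flat_zero
  have := M.free 0
  have := M.finite 0
  have : Module.Projective Γ(S, V) (M.Q 0) := Module.Flat.projective_of_finitePresentation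
  have : Module.Projective C (C ⊗[Γ(S, V)] M.Q 1) := projective_baseChange fun p => hc (by
    rw [← PrimeSpectrum.localization_away_comap_range C c]
    exact ⟨p, rfl⟩)
  have : Module.Flat C (C ⊗[Γ(S, V)] M.Q (0 + 1)) :=
    Module.Flat.of_projective (R := C) (M := C ⊗[Γ(S, V)] M.Q 1)
  have : Module.Flat C (C ⊗[Γ(S, V)] M.P 0) := Module.Flat.of_projective
  obtain ⟨eR⟩ := exists_sections0_basicOpen M hV c
  obtain ⟨eF⟩ := exists_fibre_equiv hV M htV 0
  obtain ⟨hfin, hproj⟩ := Groth.Limits.BC0.finite_projective_sections M hV hc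
  have hker := Groth.CohBase.ker_evaluation (hV.basicOpen c) t htc
  let eB := LinearEquiv.ofBijective _ (kerBC_bijective_of_flat (f := (M.d 0).baseChange C)
    (exact_baseChange (M.exact 0) (M.surjective 0) C) (surjective_baseChange (M.surjective 0) C)
    (S.residueField t))
  let eAll : S.residueField t ⊗[C] Γ(R, S.basicOpen c) ≃ₗ[S.residueField t]
      CohIII.fiberH f F t 0 :=
    (eR.symm.baseChange C (S.residueField t) _ _).trans
      (eB.trans ((kerCancelEquiv (M.d 0)).trans eF.symm))
  rw [← Groth.LocFree.rankAtStalk_sections hfree (hV.basicOpen c) htc,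
    ← Groth.FlatCxBase.fdim_eq_rankAtStalk,
    ← Groth.CohBase.CxRank.kdim_eq_fdim (S.residueField t) _ _ hker]
  exact eAll.finrank_eq

end Groth.Limits.BC0
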