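import Groth.Agent.Misc3Fitt.Local
import Groth.Agent.Misc3Fitt.Strict
import Groth.Agent.Misc3Fitt.Split
import Groth.Agent.CohBase.RankTheory

/-!
# The rank locus of a module of finite presentation
-/

universe u

open scoped TensorProduct
open Groth.FlatCxBase (fdim)

namespace Groth.Limits.BC0

variable {A : Type u} [CommRing A] (M : Type u) [AddCommGroup M] [Module A M]

/-- Cuts out the locus where the rank is at least `c`. -/
noncomputable def rankClosed (c : ℕ) : Ideal A :=
  if c = 0 then ⊥ else Fitt.ideal A M (c - 1)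

/-- Cuts out the complement of the locus where the rank is at most `c`. -/
noncomputable def rankOpen (c : ℕ) : Ideal A := Fitt.ideal A M c

variable {M} [Module.FinitePresentation A M]

lemma rankClosed_fg (c : ℕ) : (rankClosed (A := A) M c).FG := by
  unfold rankClosed
  split_ifs
  · exact Submodule.fg_bot
  · exact Groth.Misc3Fitt.ideal_fg _

lemma rankOpen_fg (c : ℕ) : (rankOpen (A := A) M c).FG := Groth.Misc3Fitt.ideal_fg _

omit [Module.FinitePresentation A M] in
/-- The fibre dimension of a base change. -/
theorem fdim_baseChange [Module.Finite A M] (B : Type u) [CommRing B] [Algebra A B]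
    (p : PrimeSpectrum B) :
    fdim (B ⊗[A] M) p = fdim M (p.comap (algebraMap A B)) := by
  let K := p.asIdeal.ResidueField
  have hK : RingHom.ker (algebraMap A K) = (p.comap (algebraMap A B)).asIdeal := by
    rw [IsScalarTower.algebraMap_eq A B K, ← RingHom.comap_ker, Ideal.ker_algebraMap_residueField]
    rfl
  refine Eq.trans ?_ (Groth.CohBase.CxRank.kdim_eq_fdim K M _ hK)
  exact (TensorProduct.AlgebraTensorModule.cancelBaseChange A B K K M).finrank_eq

omit [Module.FinitePresentation A M] in
/-- Near a prime a projective module becomes free of the local rank. -/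
theorem exists_free_away {B N : Type u} [CommRing B] [AddCommGroup N] [Module B N]
    [Module.FinitePresentation B N] [Module.Projective B N] (p : PrimeSpectrum B) :
    ∃ f : B, f ∉ p.asIdeal ∧
      Module.Free (Localization.Away f) (LocalizedModule (Submonoid.powers f) N) ∧
        Module.finrank (Localization.Away f) (LocalizedModule (Submonoid.powers f) N) =
          Module.rankAtStalk N p := by
  have : Module.Free (Localization.AtPrime p.asIdeal) (LocalizedModule p.asIdeal.primeCompl N) := by
    have h : p ∈ Module.freeLocus B N := by rw [Module.freeLocus_eq_univ]; trivial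
    exact h
  obtain ⟨f, hf, hfree, hrank⟩ := Module.FinitePresentation.exists_free_localizedModule_powers
    p.asIdeal.primeCompl (LocalizedModule.mkLinearMap p.asIdeal.primeCompl N)
    (Localization.AtPrime p.asIdeal)
  exact ⟨f, hf, hfree, hrank⟩

/-- Local freeness of given rank after base change is cut out by the two ideals. -/
theorem projective_rank_iff (B : Type u) [CommRing B] [Algebra A B] (c : ℕ) :
    (Module.Projective B (B ⊗[A] M) ∧
        ∀ p : PrimeSpectrum B, Module.rankAtStalk (B ⊗[A] M) p = c) ↔
      (rankClosed (A := A) M c).map (algebraMap A B) = ⊥ ∧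
        (rankOpen (A := A) M c).map (algebraMap A B) = ⊤ := by
  have hiff : ((∀ k, k < c → Fitt.ideal B (B ⊗[A] M) k = ⊥) ∧
      ∀ k, c ≤ k → Fitt.ideal B (B ⊗[A] M) k = ⊤) ↔
      (rankClosed (A := A) M c).map (algebraMap A B) = ⊥ ∧
        (rankOpen (A := A) M c).map (algebraMap A B) = ⊤ := by
    refine ⟨fun ⟨h0, h1⟩ => ⟨?_, ?_⟩, fun ⟨h0, h1⟩ => ⟨fun k hk => ?_, fun k hk => ?_⟩⟩
    · unfold rankClosed
      split_ifs with hc
      · exact Ideal.map_bot
      · rw [← Groth.Misc3Fitt.ideal_baseChange]
        exact h0 _ (by omega)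
    · rw [rankOpen, ← Groth.Misc3Fitt.ideal_baseChange]
      exact h1 c le_rfl
    · rw [rankClosed, if_neg (show c ≠ 0 by omega), ← Groth.Misc3Fitt.ideal_baseChange] at h0
      exact le_bot_iff.1 (h0 ▸ Groth.Misc3Fitt.ideal_mono (show k ≤ c - 1 by omega))
    · rw [rankOpen, ← Groth.Misc3Fitt.ideal_baseChange] at h1
      exact top_le_iff.1 (h1 ▸ Groth.Misc3Fitt.ideal_mono hk)
  rw [← hiff, ← Groth.Misc3Fitt.locallyFree_rank_iff]
  constructor
  · rintro ⟨hproj, hr⟩ p hp
    obtain ⟨f, hf, hfree, hrank⟩ := exists_free_away (N := B ⊗[A] M) ⟨p, hp⟩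
    exact ⟨f, hf, hfree, hrank.trans (hr _)⟩
  · intro h
    have hproj := (Groth.Misc3Fitt.projective_of_locallyFree fun p _ =>
      let ⟨f, hf, hfree, _⟩ := h p; ⟨f, hf, hfree⟩).2
    refine ⟨hproj, fun p => ?_⟩
    obtain ⟨f, hf, hfree, hrank⟩ := h p.asIdeal
    let C := Localization.Away f
    have hp : p ∈ Set.range (PrimeSpectrum.comap (algebraMap B C)) := by
      rw [PrimeSpectrum.localization_away_comap_range C f]
      exact hf
    obtain ⟨p', rfl⟩ := hp
    have : Nontrivial C := Groth.Misc3Fitt.nontrivial_away hf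
    rw [← Module.rankAtStalk_baseChange (S := C),
      Module.rankAtStalk_eq_of_equiv (LocalizedModule.equivTensorProduct (Submonoid.powers f) _).symm,
      Module.rankAtStalk_eq_finrank_of_free]
    exact hrank

end Groth.Limits.BC0
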