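import Groth.Agent.Limits.BC0.Exchange

/-!
# The open set over which the direct image commutes with base change
-/

universe u

open CategoryTheory Limits AlgebraicGeometry TopologicalSpace Opposite
open scoped TensorProduct
open Groth.CohBase Groth.CohC3.BC
open Groth.PicAux (Basis' basis'_iff_restrict restrict_smul)

set_option maxHeartbeats 800000
set_option backward.isDefEq.respectTransparency false
set_option backward.defeqAttrib.useBackward true
set_option backward.isDefEq.respectTransparency.types false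

namespace Groth.Limits.BC0

section LocFree

variable {S : Scheme.{u}} {R : S.Modules} {U : S.Opens}

/-- A restriction with local bases is finite locally free. -/
theorem isFinLocFree_restrict_of_bases
    (h : ∀ x ∈ U, ∃ (W : S.Opens) (n : ℕ) (s : Fin n → Γ(R, W)), W ≤ U ∧ x ∈ W ∧ Basis' R W s) :
    FlatMod.IsFinLocFree (R.restrict U.ι) := by
  rw [Groth.KTheory.LocFree.isFinLocFree_iff]
  intro x
  obtain ⟨W, n, s, hW, hx, hs⟩ := h x.1 x.2
  refine ⟨U.ι ⁻¹ᵁ W, n,
    fun i => (Groth.PicAux.res R (U.ι.image_preimage_le W) (s i) : Γ(R, U.ι ''ᵁ (U.ι ⁻¹ᵁ W))), hx,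
    fun V' hV' => ?_⟩
  have hle : U.ι ''ᵁ V' ≤ W := (U.ι.image_mono hV').trans (U.ι.image_preimage_le W)
  have key := hs (U.ι ''ᵁ V') hle
  refine (congrArg Function.Bijective (funext fun r => ?_)).mpr key
  refine Finset.sum_congr rfl fun i _ => ?_
  have e : Groth.PicAux.res (R.restrict U.ι) hV'
        (Groth.PicAux.res R (U.ι.image_preimage_le W) (s i) : Γ(R, U.ι ''ᵁ (U.ι ⁻¹ᵁ W))) =
      Groth.PicAux.res R hle (s i) :=
    Groth.PicAux.res_res (M := R) _ (U.ι.image_mono hV') (s i)
  rw [e]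
  exact restrict_smul U V' _ _

/-- Bases near a point of an affine open with finite projective sections. -/
theorem exists_basis_of_projective [R.IsQuasicoherent] (hU : IsAffineOpen U)
    [Module.Finite Γ(S, U) Γ(R, U)] [Module.Projective Γ(S, U) Γ(R, U)] {x : S} (hx : x ∈ U) :
    ∃ (W : S.Opens) (n : ℕ) (s : Fin n → Γ(R, W)), W ≤ U ∧ x ∈ W ∧ Basis' R W s := by
  have : Module.FinitePresentation Γ(S, U) Γ(R, U) := Module.finitePresentation_of_projective _ _
  have : Module.Free (S.presheaf.stalk x) (R.presheaf.stalk x) :=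
    (Groth.LocFree.mem_freeLocus_iff hU hx).1
      (Module.freeLocus_eq_univ (R := Γ(S, U)) (M := Γ(R, U)) ▸ trivial)
  obtain ⟨g, n, m, hg, -, hm⟩ := Groth.LocFree.exists_basis_of_free_stalk (M := R) hU hx
  exact ⟨S.basicOpen g, n, _, S.basicOpen_le g, hg, hm⟩

end LocFree

variable {X S : Scheme.{u}} (f : X ⟶ S) [QuasiCompact f] [QuasiSeparated f] (F : X.Modules)
  [F.IsQuasicoherent]

/-- Near `s` the direct image is computed by a model with locally free first cokernel. -/
def GoodAt (s : S) : Prop :=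
  ∃ (V : S.Opens) (_ : IsAffineOpen V)
    (M : Model (preimageToSpec f (V := V)) (F.restrict (f ⁻¹ᵁ V).ι)) (c : Γ(S, V)),
    s ∈ S.basicOpen c ∧ GoodAway M c

/-- The set of good points. -/
def goodOpens : S.Opens :=
  ⟨{s | GoodAt f F s}, isOpen_iff_forall_mem_open.2 fun s ⟨V, hV, M, c, hs, hc⟩ =>
    ⟨S.basicOpen c, fun t ht => ⟨V, hV, M, c, ht, hc⟩, (S.basicOpen c).2, hs⟩⟩

variable {f F}

/-- The direct image has bases near good points. -/
theorem exists_basis_of_goodAt {s : S} (h : GoodAt f F s) {U : S.Opens} (hs : s ∈ U) :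
    ∃ (W : S.Opens) (n : ℕ) (b : Fin n → Γ((Scheme.Modules.pushforward f).obj F, W)),
      W ≤ U ∧ s ∈ W ∧ Basis' ((Scheme.Modules.pushforward f).obj F) W b := by
  obtain ⟨V, hV, M, c, hsc, hc⟩ := h
  have : ((Scheme.Modules.pushforward f).obj F).IsQuasicoherent := QCohMod.isQCoh_pushforward F f
  obtain ⟨h1, h2⟩ := finite_projective_sections M hV hc
  obtain ⟨W, n, b, hW, hsW, hb⟩ := exists_basis_of_projective (hV.basicOpen c) hsc
    (R := (Scheme.Modules.pushforward f).obj F)
  exact ⟨W ⊓ U, n, _, inf_le_right, ⟨hsW, hs⟩, hb.res' inf_le_left⟩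

/-- The direct image is finite locally free over an open of good points. -/
theorem isFinLocFree_restrict_of_good {U : S.Opens} (hU : ∀ s ∈ U, GoodAt f F s) :
    FlatMod.IsFinLocFree (((Scheme.Modules.pushforward f).obj F).restrict U.ι) :=
  isFinLocFree_restrict_of_bases fun s hs => exists_basis_of_goodAt (hU s hs) hs

/-- The direct image is finite locally free when all points are good. -/
theorem isFinLocFree_of_good (hU : ∀ s : S, GoodAt f F s) :
    FlatMod.IsFinLocFree ((Scheme.Modules.pushforward f).obj F) := by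
  rw [Groth.KTheory.LocFree.isFinLocFree_iff]
  intro s
  obtain ⟨W, n, b, -, hsW, hb⟩ := exists_basis_of_goodAt (hU s) (show s ∈ (⊤ : S.Opens) from trivial)
  exact ⟨W, n, b, hsW, hb⟩

/-- The direct image commutes with base changes landing in the good points. -/
theorem isIso_bc0_of_good {X' S' : Scheme.{u}} {g : S' ⟶ S} {f' : X' ⟶ S'} {g' : X' ⟶ X}
    (h : IsPullback g' f' f g) (hg : ∀ z : S', GoodAt f F (g z)) :
    IsIso (CohBC.bc0 f g f' g' h.w F) := by
  refine Groth.CohBase.FlatBC.isIso_of_local_bijective _ fun z W hzW => ?_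
  obtain ⟨V, hV, M, c, hsc, hc⟩ := hg z
  obtain ⟨_, ⟨V', hV', rfl⟩, hzV', hle⟩ :=
    S'.isBasis_affineOpens.exists_subset_of_mem_open
      (show z ∈ W ⊓ g ⁻¹ᵁ S.basicOpen c from ⟨hzW, hsc⟩) (W ⊓ g ⁻¹ᵁ S.basicOpen c).2
  exact ⟨V', fun y hy => (hle hy).1, hzV',
    bijective_bc0_app M h hV hc hV' fun y hy => (hle hy).2⟩

/-- A point with epimorphic base change map to its fibre is good. -/
theorem goodAt_of_epi {X S : Scheme.{u}} {f : X ⟶ S} [IsProper f] [LocallyOfFinitePresentation f]
    {F : X.Modules} [F.IsQuasicoherent] (hF : CohB1.IsFP F) (hfl : FlatMod.IsFlatOver f F) (s : S)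
    (hs : Epi (CohBC.bc0 f (S.fromSpecResidueField s) (f.fiberToSpecResidueField s) (f.fiberι s)
      (f.fiber_fac s) F)) :
    GoodAt f F s := by
  obtain ⟨_, ⟨V, hV, rfl⟩, hsV, -⟩ :=
    S.isBasis_affineOpens.exists_subset_of_mem_open (Set.mem_univ s) isOpen_univ
  obtain ⟨M⟩ := exists_model_preimage f hV F hF hfl
  let z : Spec (S.residueField s) := IsLocalRing.closedPoint (S.residueField s)
  have hpt : ∀ y : Spec (S.residueField s), S.fromSpecResidueField s y = s :=
    fun y => Scheme.fromSpecResidueField_apply s y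
  have hK : IsField Γ(Spec (S.residueField s), ⊤) :=
    MulEquiv.isField (Field.toIsField (S.residueField s))
      (Scheme.ΓSpecIso (S.residueField s)).commRingCatIsoToRingEquiv.toMulEquiv
  have hmem := mem_freeLocus_of_epi M
    (IsPullback.of_hasPullback f (S.fromSpecResidueField s)) hV (isAffineOpen_top _)
    (fun y _ => show S.fromSpecResidueField s y ∈ V by rw [hpt y]; exact hsV) hK (z := z) trivial hs
  have e : (⟨S.fromSpecResidueField s z, by rw [hpt z]; exact hsV⟩ : V) = ⟨s, hsV⟩ :=
    Subtype.ext (hpt z)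
  rw [show hV.primeIdealOf _ = hV.primeIdealOf ⟨s, hsV⟩ from congrArg _ e] at hmem
  obtain ⟨c, hc, hgood⟩ := exists_goodAway M hV hsV hmem
  exact ⟨V, hV, M, c, hc, hgood⟩

end Groth.Limits.BC0
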