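import Groth.Agent.Limits.BC0.CurvesSection
import Groth.Agent.CohBase.AffineBC
import Groth.Agent.PicAux.GenLocal

/-!
# The direct image of the module of a section of a family of curves
-/

universe u

open CategoryTheory Limits AlgebraicGeometry TopologicalSpace Opposite
open Groth.PicAux

set_option backward.isDefEq.respectTransparency false
set_option backward.defeqAttrib.useBackward true
set_option backward.isDefEq.respectTransparency.types false

namespace Groth.Limits.BC0.CurveSection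

variable {X S : Scheme.{u}} (f : X ⟶ S) [IsProper f] [Smooth f] [GeometricallyConnected f]
  (hdim : ∀ s : S, topologicalKrullDim ↥(f.fiber s) = 1)
  (hg : ∀ s : S, 1 ≤ CohIII.fiberRank f (Coh.structureModule X) 1 s)
  (x : S ⟶ X) (hx : x ≫ f = 𝟙 S)
  {L : X.Modules} (hL : PicF.IsInvertible L)
  (hLx : ClSub.IsInverseOf L (ClSub.idealMod x.ker))

noncomputable local instance overResidueField'' (s : S) :
    (f.fiber s).Over (Spec (CommRingCat.of (S.residueField s))) :=
  ⟨f.fiberToSpecResidueField s⟩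

include hdim hg hx hL hLx

/-- The fibre rank of `O(x)` is one. -/
theorem fiberRank_eq_one (s : S) : CohIII.fiberRank f L 0 s = 1 := by
  obtain ⟨-, hp, -⟩ := fiber_curve f hdim s
  obtain ⟨-, hI⟩ := isEffCartier_ker f hdim x hx
  obtain ⟨σ, hσ, -⟩ := exists_section_zeroScheme_eq hI hLx
  refine le_antisymm (fiberRank_le_one f hdim x hx hL hLx s (hg s)) ?_
  have : Module.Finite (S.residueField s) (CohIII.fiberH f L s 0) :=
    Groth.EulerDeg.finite_HH (S.residueField s) (f.fiber s)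
      (Groth.EulerDeg.isCoh_of_isInvertible (isInvertible_pullback (f.fiberι s) hL)) 0
  have : Nontrivial (CohIII.fiberH f L s 0) := by
    let e := Groth.EulerDeg.h0Equiv (S.residueField s) (CohIII.fiberMod f L s)
    refine ⟨e.symm (pullSec (f.fiberι s) L (σ.app ⊤ (oneSec X ⊤))), 0, fun h => ?_⟩
    exact pullSec_ne_zero f hdim x hx hL hLx σ hσ s (e.symm.map_eq_zero_iff.1 h)
  exact Module.finrank_pos (R := S.residueField s) (M := CohIII.fiberH f L s 0)

/-- The direct image of `O(x)` commutes with passage to the fibres. -/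
theorem fibreEpi (s : S) : FibreEpi f L s := by
  obtain ⟨-, hp, -⟩ := fiber_curve f hdim s
  obtain ⟨-, hI⟩ := isEffCartier_ker f hdim x hx
  obtain ⟨σ, hσ, -⟩ := exists_section_zeroScheme_eq hI hLx
  refine Groth.QCohMod.epi_of_affine_surjective _ fun U hU w => ?_
  let f' := f.fiberToSpecResidueField s
  let M := CohIII.fiberMod f L s
  by_cases hU0 : IsLocalRing.closedPoint (S.residueField s) ∈ U
  swap
  · refine ⟨0, ?_⟩
    have hbot : f' ⁻¹ᵁ U ≤ ⨆ _ : PEmpty.{1}, (⊥ : (f.fiber s).Opens) := fun y hy =>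
      absurd (show IsLocalRing.closedPoint (S.residueField s) ∈ U by
        rwa [← Subsingleton.elim (f' y) (IsLocalRing.closedPoint (S.residueField s))]) hU0
    exact res_ext (M := M) (U := f' ⁻¹ᵁ U) (fun _ : PEmpty.{1} => (⊥ : (f.fiber s).Opens))
      (fun i => i.elim) hbot fun i => i.elim
  obtain rfl : U = ⊤ := eq_top_iff.2 fun z _ =>
    Subsingleton.elim (IsLocalRing.closedPoint (S.residueField s)) z ▸ hU0
  let v : Γ(M, (⊤ : (f.fiber s).Opens)) := pullSec (f.fiberι s) L (σ.app ⊤ (oneSec X ⊤))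
  have hv : v ≠ 0 := pullSec_ne_zero f hdim x hx hL hLx σ hσ s
  letI := Groth.EulerDeg.secModule (S.residueField s) (X := f.fiber s) M (⊤ : (f.fiber s).Opens)
  have h1 : Module.finrank (S.residueField s) Γ(M, (⊤ : (f.fiber s).Opens)) = 1 :=
    (Groth.EulerDeg.h0Equiv (S.residueField s) M).finrank_eq.symm.trans
      (fiberRank_eq_one f hdim hg x hx hL hLx s)
  obtain ⟨a, ha⟩ := exists_smul_eq_of_finrank_eq_one h1 hv w
  have key := Groth.CohBase.AffineBC.bcHom_pullSec (f.fiber_fac s) L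
    (V := ⊤) (V' := (⊤ : (Spec (S.residueField s)).Opens)) le_top
    (le_top : f' ⁻¹ᵁ ⊤ ≤ f.fiberι s ⁻¹ᵁ (f ⁻¹ᵁ ⊤)) (σ.app ⊤ (oneSec X ⊤))
  refine ⟨(show Γ(Spec (S.residueField s), ⊤) from (Scheme.ΓSpecIso (S.residueField s)).inv a) •
    QCohMod.res _ (le_top : (⊤ : (Spec (S.residueField s)).Opens) ≤ S.fromSpecResidueField s ⁻¹ᵁ ⊤)
      (pullSec (S.fromSpecResidueField s) ((Scheme.Modules.pushforward f).obj L)
        (show Γ((Scheme.Modules.pushforward f).obj L, ⊤) from σ.app ⊤ (oneSec X ⊤))), ?_⟩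
  refine ((CohBC.bc0 f _ f' _ (f.fiber_fac s) L).app_smul _ _).trans ?_
  refine Eq.trans (congrArg ((show Γ(Spec (S.residueField s), ⊤) from
    (Scheme.ΓSpecIso (S.residueField s)).inv a) • ·) key) ?_
  refine Eq.trans ?_ ha
  change f'.appTop ((Scheme.ΓSpecIso (S.residueField s)).inv a) • QCohMod.res M le_top v = a • v
  rw [Groth.EulerDeg.smul_sec]
  congr 1
  · exact (Groth.PicAux.resX_self (X := f.fiber s) le_rfl _).symm
  · exact QCohMod.res_self M v

variable [L.IsQuasicoherent]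

/-- All points of the base are good for `O(x)`. -/
theorem goodAt (s : S) : GoodAt f L s :=
  goodAt_of_epi (Groth.PropsBasic.LocFree.isFP_of_isFinLocFree L fun y =>
      let ⟨U, hy, e⟩ := Groth.LocFree.isInvertible_iff_ofRank_one.mp hL y
      ⟨U, 1, hy, e⟩)
    (Groth.PicAux.Seesaw.isFlatOver_of_isInvertible f hL) s (fibreEpi f hdim hg x hx hL hLx s)

/-- The direct image of `O(x)` is invertible. -/
theorem isInvertible_push : PicF.IsInvertible ((Scheme.Modules.pushforward f).obj L) := by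
  have hlf := isFinLocFree_of_good fun s => goodAt f hdim hg x hx hL hLx s
  rw [Groth.LocFree.isInvertible_iff_ofRank_one, Groth.LocFree.isFinLocFreeOfRank_iff_finrank]
  exact ⟨hlf, fun s => (finrank_stalk_of_goodAt (goodAt f hdim hg x hx hL hLx s) hlf).trans
    (fiberRank_eq_one f hdim hg x hx hL hLx s)⟩

/-- The canonical section generates the direct image of `O(x)`. -/
theorem gen_push (σ : Coh.structureModule X ⟶ L) (hσ : PicF2.zeroScheme L σ = x.ker) :
    Gen ((Scheme.Modules.pushforward f).obj L) ⊤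
      (show Γ((Scheme.Modules.pushforward f).obj L, ⊤) from σ.app ⊤ (oneSec X ⊤)) := by
  let R := (Scheme.Modules.pushforward f).obj L
  let σ₁ : Γ(R, ⊤) := σ.app ⊤ (oneSec X ⊤)
  have hR := (isInvertible_iff_exists_gen R).1 (isInvertible_push f hdim hg x hx hL hLx)
  choose V e hsV he using hR
  refine Gen.of_cover V (fun _ => le_top) (fun s _ => Opens.mem_iSup.2 ⟨s, hsV s⟩) fun s₀ => ?_
  obtain ⟨c, hc⟩ := (he s₀).exists_coeff le_rfl (res R (le_top : V s₀ ≤ ⊤) σ₁)
  rw [res_self] at hc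
  have hcu : IsUnit c := by
    refine (RingedSpace.isUnit_of_isUnit_germ S.toLocallyRingedSpace.toRingedSpace _ c fun p hp => ?_)
    by_contra hne
    refine pullSec_ne_zero f hdim x hx hL hLx σ hσ p ?_
    have hzero : (S.fromSpecResidueField p).app (V s₀) c = 0 :=
      Groth.Curves1.RR.fromSpecResidueField_app_eq_zero hp c hne
    have htop : (⊤ : (f.fiber p).Opens) ≤ f.fiberι p ⁻¹ᵁ (f ⁻¹ᵁ V s₀) := fun y _ => by
      have : f.fiberι p y ∈ f ⁻¹' {p} := by
        rw [← Scheme.Hom.range_fiberι]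
        exact Set.mem_range_self y
      show f (f.fiberι p y) ∈ V s₀
      rw [this]
      exact hp
    have hc' : res L (le_top : f ⁻¹ᵁ V s₀ ≤ f ⁻¹ᵁ ⊤) (σ.app ⊤ (oneSec X ⊤)) =
        f.app (V s₀) c • (show Γ(L, f ⁻¹ᵁ V s₀) from e s₀) := hc
    have h1 : res _ (le_top : f.fiberι p ⁻¹ᵁ (f ⁻¹ᵁ V s₀) ≤ f.fiberι p ⁻¹ᵁ (f ⁻¹ᵁ ⊤))
        (pullSec (f.fiberι p) L (σ.app ⊤ (oneSec X ⊤))) =
        (f.fiberι p).app (f ⁻¹ᵁ V s₀) (f.app (V s₀) c) •
          pullSec (f.fiberι p) L (show Γ(L, f ⁻¹ᵁ V s₀) from e s₀) := by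
      rw [← pullSec_smul, ← hc']
      exact res_pullSec (f.fiberι p) L (le_top : f ⁻¹ᵁ V s₀ ≤ f ⁻¹ᵁ ⊤) _
    have h2 : (f.fiberι p).app (f ⁻¹ᵁ V s₀) (f.app (V s₀) c) = 0 := by
      have hh := congr($(Scheme.Hom.congr_app (f.fiber_fac p) (V s₀)) c)
      rw [Scheme.Hom.comp_app, Scheme.Hom.comp_app] at hh
      simp only [CommRingCat.comp_apply] at hh
      refine Eq.trans hh ?_
      rw [hzero, map_zero, map_zero]
    rw [h2, zero_smul] at h1
    have h3 := congrArg (res (CohIII.fiberMod f L p) htop) h1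
    rw [res_res, res_zero] at h3
    exact (res_self le_rfl _).symm.trans h3
  exact hc ▸ (he s₀).smul_unit hcu

end Groth.Limits.BC0.CurveSection
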