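import Groth.Agent.Limits.BC0.Consequences
import Groth.Agent.CohC3.BC.Global
import Groth.Agent.CohBase.RpushAffineLin

/-!
# Vanishing of cohomology of fibres and base change in degree zero
-/

universe u

open CategoryTheory Limits AlgebraicGeometry TopologicalSpace Opposite
open Groth.CohBase (preimageToSpec)
open Groth.CohC3.BC

set_option maxHeartbeats 800000
set_option backward.isDefEq.respectTransparency false
set_option backward.defeqAttrib.useBackward true
set_option backward.isDefEq.respectTransparency.types false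

namespace Groth.Limits.BC0

variable {X S : Scheme.{u}} {f : X ⟶ S} [IsProper f] [LocallyOfFinitePresentation f] {F : X.Modules}
  [F.IsQuasicoherent] (hF : CohB1.IsFP F) (hfl : FlatMod.IsFlatOver f F)

include hF hfl

/-- Points where the first cohomology of the fibre vanishes are good. -/
theorem goodAt_of_vanish (s : S) (h : Subsingleton (CohIII.fiberH f F s 1)) : GoodAt f F s := by
  obtain ⟨V, hV, M, hs⟩ := exists_local hF hfl s
  obtain ⟨c, hc, hgood⟩ := exists_goodAway M hV hs (mem_freeLocus_of_vanish hV M hs 1 h).1.2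
  exact ⟨V, hV, M, c, hc, hgood⟩

/-- Higher direct images vanish over open sets where the fibre cohomology does. -/
theorem isZero_restrict_Rpush [HasInjectiveResolutions X.Modules] (p : ℕ) (U : S.Opens)
    (hU : ∀ s ∈ U, Subsingleton (CohIII.fiberH f F s p)) :
    IsZero (((Coh.Rpush f p).obj F).restrict U.ι) := by
  let R := (Coh.Rpush f p).obj F
  have : R.IsQuasicoherent := Groth.CohBase.isQCoh_Rpush f p
  refine (Groth.QCohMod.isZero_restrict_iff_stalk R _).2 fun z hz => ?_
  obtain ⟨V, hV, M, hzV⟩ := exists_local hF hfl z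
  have hns := (mem_freeLocus_of_vanish hV M hzV p (hU z hz)).2
  letI : ((f ⁻¹ᵁ V : X.Opens) : Scheme.{u}).Over (Spec (CommRingCat.of Γ(S, V))) :=
    ⟨preimageToSpec f⟩
  obtain ⟨e⟩ := Groth.CohBase.exists_Rpush_linEquiv f (M := F) p hV
  let e' : LinearMap.ker (M.d p) ≃ₗ[Γ(S, V)] Γ(R, V) := (M.e₀ p).trans e.symm
  have hns' : hV.primeIdealOf ⟨z, hzV⟩ ∉ Module.support Γ(S, V) Γ(R, V) := by
    rw [← e'.support_eq]
    exact hns
  rw [Module.notMem_support_iff] at hns'
  let _ := Groth.QCohMod.stalkModule R z hzV
  have := Groth.QCohMod.isLocalizedModule_germ R hV z hzV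
  have : Subsingleton (R.presheaf.stalk z) :=
    (IsLocalizedModule.iso (hV.primeIdealOf ⟨z, hzV⟩).asIdeal.primeCompl
      (Groth.QCohMod.germₗ R z hzV)).symm.toEquiv.subsingleton
  exact @AddCommGrpCat.isZero_of_subsingleton _ this

end Groth.Limits.BC0
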