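import Groth.Agent.Limits.BC0.Translate
import Groth.Agent.CohC3.BC.Descent
import Groth.Agent.CohBase.FibreConsequences
import Groth.Agent.CohBase.FlatBC.Glue
import Groth.Agent.LocFree.Affine
import Groth.Agent.QCohMod.Category
import Mathlib.RingTheory.Flat.EquationalCriterion

/-!
# Cohomology and base change in degree zero
-/

universe u

open CategoryTheory Limits AlgebraicGeometry TopologicalSpace Opposite
open scoped TensorProduct
open Groth.CohBase Groth.CohCmpLib Groth.CohC3.BC
open Groth.QCohMod (sectionsAlg)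

set_option maxHeartbeats 800000
set_option backward.isDefEq.respectTransparency false
set_option backward.defeqAttrib.useBackward true
set_option backward.isDefEq.respectTransparency.types false

namespace Groth.Limits.BC0

section Algebra

variable {A B : Type u} [CommRing A] [CommRing B] [Algebra A B] {Q : Type u} [AddCommGroup Q]
  [Module A Q] [Module.FinitePresentation A Q]

/-- A base change into the free locus is projective. -/
theorem projective_baseChange
    (h : ∀ p : PrimeSpectrum B, PrimeSpectrum.comap (algebraMap A B) p ∈ Module.freeLocus A Q) :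
    Module.Projective B (B ⊗[A] Q) :=
  Module.freeLocus_eq_univ_iff.1
    (Set.eq_univ_of_forall fun p => Module.comap_freeLocus_le (h p))

end Algebra

section Primes

variable {S S' : Scheme.{u}} (g : S' ⟶ S) {V : S.Opens} (hV : IsAffineOpen V) {U' : S'.Opens}
  (hU' : IsAffineOpen U') (e : U' ≤ g ⁻¹ᵁ V)

include hU' in
/-- The primes hit by a morphism of affine opens. -/
lemma exists_comap_eq (p : PrimeSpectrum Γ(S', U')) :
    ∃ (z : S') (hz : z ∈ U'), PrimeSpectrum.comap (g.appLE V U' e).hom p =
      hV.primeIdealOf ⟨g z, e hz⟩ := by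
  obtain ⟨z, hz, rfl⟩ := exists_primeIdealOf_eq hU' p
  exact ⟨z, hz, IsAffineOpen.comap_primeIdealOf_appLE (f := g) V hV U' hU' e hz⟩

end Primes

variable {X S : Scheme.{u}} {f : X ⟶ S} [QuasiCompact f] [QuasiSeparated f] {F : X.Modules}
  [F.IsQuasicoherent] {V : S.Opens}
  (M : CohC3.BC.Model (preimageToSpec f (V := V)) (F.restrict (f ⁻¹ᵁ V).ι))

/-- The first cokernel is locally free over `D(c)`. -/
def GoodAway (c : Γ(S, V)) : Prop :=
  (PrimeSpectrum.basicOpen c : Set (PrimeSpectrum Γ(S, V))) ⊆ Module.freeLocus Γ(S, V) (M.Q 1)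

/-- Points of the free locus have neighbourhoods over which the first cokernel is locally free. -/
lemma exists_goodAway (hV : IsAffineOpen V) {s : S} (hs : s ∈ V)
    (h : hV.primeIdealOf ⟨s, hs⟩ ∈ Module.freeLocus Γ(S, V) (M.Q 1)) :
    ∃ c : Γ(S, V), s ∈ S.basicOpen c ∧ GoodAway M c := by
  have := M.finitePresentation 1
  obtain ⟨_, ⟨c, rfl⟩, hmem, hle⟩ :=
    PrimeSpectrum.isTopologicalBasis_basic_opens.exists_subset_of_mem_open h Module.isOpen_freeLocus
  exact ⟨c, (Groth.QCohMod.mem_basicOpen_iff_notMem_primeIdealOf hV c s hs).2 hmem, hle⟩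

include M in
/-- Where the first cokernel is locally free, the base change map is bijective on affine opens. -/
theorem bijective_bc0_app {X' S' : Scheme.{u}} {g : S' ⟶ S} {f' : X' ⟶ S'} {g' : X' ⟶ X}
    (h : IsPullback g' f' f g) (hV : IsAffineOpen V) {c : Γ(S, V)} (hc : GoodAway M c)
    {U' : S'.Opens} (hU' : IsAffineOpen U') (e : U' ≤ g ⁻¹ᵁ S.basicOpen c) :
    Function.Bijective ((CohBC.bc0 f g f' g' h.w F).app U') := by
  have e₀ : U' ≤ g ⁻¹ᵁ V := e.trans (g.preimage_mono (S.basicOpen_le c))
  letI aC : Algebra Γ(S, V) Γ(S, S.basicOpen c) :=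
    (S.presheaf.map (homOfLE (S.basicOpen_le c)).op).hom.toAlgebra
  letI aB : Algebra Γ(S, V) Γ(S', U') := sectionsAlg g e₀
  letI aCB : Algebra Γ(S, S.basicOpen c) Γ(S', U') := sectionsAlg g e
  have : IsScalarTower Γ(S, V) Γ(S, S.basicOpen c) Γ(S', U') := IsScalarTower.of_algebraMap_eq fun a => by
    change (g.appLE V U' e₀).hom a =
      (g.appLE (S.basicOpen c) U' e).hom ((S.presheaf.map (homOfLE (S.basicOpen_le c)).op).hom a)
    rw [← CommRingCat.comp_apply, Scheme.Hom.map_appLE]
  have : IsLocalization.Away c Γ(S, S.basicOpen c) := hV.isLocalization_basicOpen c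
  have : Module.Flat Γ(S, V) Γ(S, S.basicOpen c) :=
    IsLocalization.flat Γ(S, S.basicOpen c) (Submonoid.powers c)
  have := M.finitePresentation 1
  have := M.free 0
  have : Module.Projective Γ(S, S.basicOpen c) (Γ(S, S.basicOpen c) ⊗[Γ(S, V)] M.Q 1) := by
    refine projective_baseChange fun p => hc ?_
    rw [← PrimeSpectrum.localization_away_comap_range Γ(S, S.basicOpen c) c]
    exact ⟨p, rfl⟩
  obtain ⟨σ, τ, hσ, hτ, hcomm⟩ := exists_bc0_app_eq M h hV hU' e₀
  have : Module.Flat Γ(S, S.basicOpen c) (Γ(S, S.basicOpen c) ⊗[Γ(S, V)] M.Q (0 + 1)) :=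
    Module.Flat.of_projective (R := Γ(S, S.basicOpen c))
      (M := Γ(S, S.basicOpen c) ⊗[Γ(S, V)] M.Q 1)
  have hk : Function.Bijective (kerBC (M.d 0) Γ(S', U')) :=
    kerBC_bijective_of_tower Γ(S, S.basicOpen c) Γ(S', U') (M.exact 0) (M.surjective 0)
  have h1 : Function.Bijective (fun z => (CohBC.bc0 f g f' g' h.w F).app U' (σ z)) := by
    rw [show (fun z => (CohBC.bc0 f g f' g' h.w F).app U' (σ z)) =
      fun z => τ (kerBC (M.d 0) Γ(S', U') z) from funext hcomm]
    exact hτ.comp hk
  exact (Function.Bijective.of_comp_iff _ hσ).1 h1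

include M in
/-- The direct image is finite locally free where the first cokernel is. -/
theorem finite_projective_sections (hV : IsAffineOpen V) {c : Γ(S, V)} (hc : GoodAway M c) :
    Module.Finite Γ(S, S.basicOpen c) Γ((Scheme.Modules.pushforward f).obj F, S.basicOpen c) ∧
      Module.Projective Γ(S, S.basicOpen c)
        Γ((Scheme.Modules.pushforward f).obj F, S.basicOpen c) := by
  let R := (Scheme.Modules.pushforward f).obj F
  have : R.IsQuasicoherent := QCohMod.isQCoh_pushforward F f
  letI : Algebra Γ(S, V) Γ(S, S.basicOpen c) :=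
    (S.presheaf.map (homOfLE (S.basicOpen_le c)).op).hom.toAlgebra
  have : IsLocalization.Away c Γ(S, S.basicOpen c) := hV.isLocalization_basicOpen c
  have : Module.Flat Γ(S, V) Γ(S, S.basicOpen c) :=
    IsLocalization.flat Γ(S, S.basicOpen c) (Submonoid.powers c)
  letI := Groth.PropsBasic.FPSections.resModule R c
  have : IsScalarTower Γ(S, V) Γ(S, S.basicOpen c) Γ(R, S.basicOpen c) :=
    IsScalarTower.of_algebraMap_smul fun _ _ => rfl
  have := Groth.PropsBasic.FPSections.isLocalizedModule_resₗ R hV c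
  let e := (IsLocalizedModule.isBaseChange (Submonoid.powers c) Γ(S, S.basicOpen c)
    (Groth.PropsBasic.FPSections.resₗ R c)).equiv
  have := M.finitePresentation 1
  have := M.finitePresentation 0
  have := M.flat_zero
  have := M.free 0
  have := M.finite 0
  have : Module.Projective Γ(S, V) (M.Q 0) := Module.Flat.projective_of_finitePresentation
  let C := Γ(S, S.basicOpen c)
  have hQ1 : Module.Projective C (C ⊗[Γ(S, V)] M.Q 1) := by
    refine projective_baseChange fun p => hc ?_
    rw [← PrimeSpectrum.localization_away_comap_range C c]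
    exact ⟨p, rfl⟩
  obtain ⟨hfin, hproj⟩ := ker_finite_projective (exact_baseChange (M.exact 0) (M.surjective 0) C)
    (surjective_baseChange (M.surjective 0) C)
  let eK : LinearMap.ker ((M.d 0).baseChange C) ≃ₗ[C] Γ(R, S.basicOpen c) :=
    (LinearEquiv.ofBijective _ (kerBC_bijective_of_flat_algebra (f := M.d 0) C)).symm.trans
      ((TensorProduct.congr (LinearEquiv.refl Γ(S, V) C)
        (secEquiv0 M)).toAddEquiv.toLinearEquiv (fun a z => by
          induction z using TensorProduct.induction_on with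
          | zero => simp
          | tmul a x => rfl
          | add a b ha hb => simp only [smul_add, map_add]; exact congrArg₂ (· + ·) ha hb) ≪≫ₗ e)
  exact ⟨Module.Finite.equiv eK, Module.Projective.of_equiv eK⟩

include M in
/-- An epimorphic base change map at a point puts it in the free locus of the first cokernel. -/
theorem mem_freeLocus_of_epi {X' S' : Scheme.{u}} {g : S' ⟶ S} {f' : X' ⟶ S'} {g' : X' ⟶ X}
    (h : IsPullback g' f' f g) (hV : IsAffineOpen V) {U' : S'.Opens} (hU' : IsAffineOpen U')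
    (e : U' ≤ g ⁻¹ᵁ V) (hK : IsField Γ(S', U')) {z : S'} (hz : z ∈ U')
    (hepi : Epi (CohBC.bc0 f g f' g' h.w F)) :
    hV.primeIdealOf ⟨g z, e hz⟩ ∈ Module.freeLocus Γ(S, V) (M.Q 1) := by
  have : QuasiSeparated f' := MorphismProperty.of_isPullback h ‹QuasiSeparated f›
  have : QuasiCompact f' := MorphismProperty.of_isPullback h ‹QuasiCompact f›
  have := QCohMod.isQCoh_pushforward F f
  have := QCohMod.isQCoh_pullback_obj g' F
  have := QCohMod.isQCoh_pullback_obj g ((Scheme.Modules.pushforward f).obj F)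
  have := QCohMod.isQCoh_pushforward ((Scheme.Modules.pullback g').obj F) f'
  letI : Algebra Γ(S, V) Γ(S', U') := sectionsAlg g e
  letI : Field Γ(S', U') := hK.toField
  have := M.finitePresentation 0
  have := M.free 0
  have := M.finite 0
  obtain ⟨σ, τ, hσ, hτ, hcomm⟩ := exists_bc0_app_eq M h hV hU' e
  have hs : Function.Surjective (kerBC (M.d 0) Γ(S', U')) := by
    intro y
    obtain ⟨w, hw⟩ := QCohMod.app_surjective_of_epi (CohBC.bc0 f g f' g' h.w F) hU' (τ y)
    obtain ⟨z, rfl⟩ := hσ.2 w
    exact ⟨z, hτ.1 ((hcomm z).symm.trans hw)⟩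
  refine mem_freeLocus_of_surjective Γ(S', U') _ ?_ (M.exact 0) (M.surjective 0) hs
  obtain ⟨z', hz', hcomap⟩ := exists_comap_eq g hV hU' e (⊥ : PrimeSpectrum Γ(S', U'))
  have : hU'.primeIdealOf ⟨z, hz⟩ = hU'.primeIdealOf ⟨z', hz'⟩ := Subsingleton.elim _ _
  have hzz : z = z' := by
    have h2 := congrArg hU'.fromSpec this
    rwa [hU'.fromSpec_primeIdealOf, hU'.fromSpec_primeIdealOf] at h2
  subst hzz
  rw [← hcomap]
  rfl

end Groth.Limits.BC0
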