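import Groth.Agent.Limits.BC0.ModelFamily
import Groth.Agent.Limits.BC0.Vanish
import Groth.Agent.Limits.BC0.RankAlg

/-!
# Charts of base changes and the condition for universal base change in degree zero
-/

universe u

open CategoryTheory Limits AlgebraicGeometry TopologicalSpace Opposite
open scoped TensorProduct
open Groth.CohBase (preimageToSpec)
open Groth.CohC3.BC
open Groth.QCohMod (sectionsAlg)
open Groth.FlatCxBase (fdim)

set_option maxHeartbeats 800000
set_option backward.isDefEq.respectTransparency false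
set_option backward.defeqAttrib.useBackward true
set_option backward.isDefEq.respectTransparency.types false

namespace Groth.Limits.BC0

variable {X S : Scheme.{u}}

/-- The base change map to the fibre over `t` is an epimorphism. -/
def FibreEpi {X' T : Scheme.{u}} (f' : X' ⟶ T) (F' : X'.Modules) (t : T) : Prop :=
  Epi (CohBC.bc0 f' (T.fromSpecResidueField t) (f'.fiberToSpecResidueField t) (f'.fiberι t)
    (f'.fiber_fac t) F')

/-- Good points have epimorphic base change maps to the fibre. -/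
theorem fibreEpi_of_goodAt {X' T : Scheme.{u}} {f' : X' ⟶ T} [QuasiCompact f'] [QuasiSeparated f']
    {F' : X'.Modules} [F'.IsQuasicoherent] {t : T} (h : GoodAt f' F' t) : FibreEpi f' F' t := by
  have := isIso_bc0_of_good (F := F') (IsPullback.of_hasPullback f' (T.fromSpecResidueField t))
    fun z => by rw [Scheme.fromSpecResidueField_apply]; exact h
  exact @IsIso.epi_of_iso _ _ _ _ _ this

variable (f : X ⟶ S) (F : X.Modules)

/-- Models over an affine open for all base changes, with linked cokernels. -/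
structure Fam {V : S.Opens} (hV : IsAffineOpen V) where
  /-- the zeroth cokernel -/
  Q₀ : ModuleCat.{u} Γ(S, V)
  /-- the first cokernel -/
  Q₁ : ModuleCat.{u} Γ(S, V)
  /-- the zeroth term -/
  P₀ : ModuleCat.{u} Γ(S, V)
  fp₀ : Module.FinitePresentation Γ(S, V) Q₀
  proj₀ : Module.Projective Γ(S, V) Q₀
  fp₁ : Module.FinitePresentation Γ(S, V) Q₁
  free : Module.Free Γ(S, V) P₀
  finite : Module.Finite Γ(S, V) P₀
  base : ∃ M : Model (preimageToSpec f (V := V)) (F.restrict (f ⁻¹ᵁ V).ι),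
    Nonempty (M.Q 0 ≃ₗ[Γ(S, V)] Q₀) ∧ Nonempty (M.Q 1 ≃ₗ[Γ(S, V)] Q₁) ∧
      Nonempty (M.P 0 ≃ₗ[Γ(S, V)] P₀)
  chart : ∀ {X' T : Scheme.{u}} {u : T ⟶ S} {f' : X' ⟶ T} {g' : X' ⟶ X}
    (_ : IsPullback g' f' f u) {W : T.Opens} (_ : IsAffineOpen W) (e : W ≤ u ⁻¹ᵁ V),
    letI : Algebra Γ(S, V) Γ(T, W) := sectionsAlg u e
    ∃ M : Model (preimageToSpec f' (V := W))
        (((Scheme.Modules.pullback g').obj F).restrict (f' ⁻¹ᵁ W).ι),
      Nonempty (M.Q 0 ≃ₗ[Γ(T, W)] Γ(T, W) ⊗[Γ(S, V)] Q₀) ∧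
        Nonempty (M.Q 1 ≃ₗ[Γ(T, W)] Γ(T, W) ⊗[Γ(S, V)] Q₁) ∧
          Nonempty (M.P 0 ≃ₗ[Γ(T, W)] Γ(T, W) ⊗[Γ(S, V)] P₀)

variable {f F} [IsProper f] [LocallyOfFinitePresentation f] [F.IsQuasicoherent]

/-- Families exist over every affine open. -/
theorem nonempty_fam (hF : CohB1.IsFP F) (hfl : FlatMod.IsFlatOver f F) {V : S.Opens}
    (hV : IsAffineOpen V) : Nonempty (Fam f F hV) := by
  have hsq := Groth.CohBase.isPullback_preimageToSpec f hV
  haveI : IsProper (preimageToSpec f (V := V)) := MorphismProperty.of_isPullback hsq ‹_›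
  haveI : LocallyOfFinitePresentation (preimageToSpec f (V := V)) :=
    MorphismProperty.of_isPullback hsq ‹_›
  let G := F.restrict (f ⁻¹ᵁ V).ι
  obtain ⟨Q₀, Q₁, P₀, h₀, hp₀, h₁, hf, hfin, hmodel⟩ :=
    exists_model_family (preimageToSpec f (V := V)) G
      (Groth.Pi1FPDesc.isFP_of_iso ((Scheme.Modules.restrictFunctorIsoPullback _).app F).symm
        (Groth.QCohMod.isFP_pullback _ F hF))
      (Groth.CohBase.isFlatOver_restrict_preimage f hV F hfl)
  refine ⟨{ Q₀ := Q₀, Q₁ := Q₁, P₀ := P₀, fp₀ := h₀, proj₀ := hp₀, fp₁ := h₁, free := hf,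
            finite := hfin, base := ?_, chart := ?_ }⟩
  · have hid : IsPullback (𝟙 (f ⁻¹ᵁ V : X.Opens).toScheme) (preimageToSpec f (V := V))
        (preimageToSpec f (V := V))
        (Spec.map (CommRingCat.ofHom (algebraMap Γ(S, V) Γ(S, V)))) := by
      rw [show CommRingCat.ofHom (algebraMap Γ(S, V) Γ(S, V)) = 𝟙 (CommRingCat.of Γ(S, V)) from rfl,
        Spec.map_id]
      exact IsPullback.of_horiz_isIso ⟨by simp⟩
    obtain ⟨M, ⟨e0⟩, ⟨e1⟩, ⟨eP⟩⟩ := hmodel Γ(S, V) _ (preimageToSpec f (V := V)) (𝟙 _) hid G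
      inferInstance ((Scheme.Modules.pullbackId _).app G)
    exact ⟨M, ⟨e0.trans (TensorProduct.lid _ _)⟩, ⟨e1.trans (TensorProduct.lid _ _)⟩,
      ⟨eP.trans (TensorProduct.lid _ _)⟩⟩
  · intro X' T u f' g' h W hW e
    letI : Algebra Γ(S, V) Γ(T, W) := sectionsAlg u e
    have e' : f' ⁻¹ᵁ W ≤ g' ⁻¹ᵁ (f ⁻¹ᵁ V) :=
      (f'.preimage_mono e).trans (CohCmp.sqLE f u f' g' h.w V)
    have := QCohMod.isQCoh_pullback_obj g' F
    exact hmodel Γ(T, W) _ (preimageToSpec f' (V := W)) (g'.resLE (f ⁻¹ᵁ V) (f' ⁻¹ᵁ W) e')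
      (Groth.CohCmpLib.isBC_resLE h hV hW e e') _
      (Scheme.Modules.isQuasicoherent_restrictFunctor _ _) (CohPull.pullOnIso g' _ _ e' F)

variable {V : S.Opens} {hV : IsAffineOpen V} (D : Fam f F hV)

include D in
/-- The fibre rank in terms of a family. -/
theorem Fam.fiberRank_add {s : S} (hs : s ∈ V) :
    CohIII.fiberRank f F 0 s + Module.finrank Γ(S, V) D.P₀ =
      fdim D.Q₀ (hV.primeIdealOf ⟨s, hs⟩) + fdim D.Q₁ (hV.primeIdealOf ⟨s, hs⟩) := by
  obtain ⟨M, ⟨e0⟩, ⟨e1⟩, ⟨eP⟩⟩ := D.base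
  rw [← eP.finrank_eq, ← Groth.FlatCxBase.fdim_congr _ e0, ← Groth.FlatCxBase.fdim_congr _ e1]
  exact Groth.CohC3.BC.fiberRank_add hV M hs 0

variable {X' T : Scheme.{u}} {u : T ⟶ S} {f' : X' ⟶ T} {g' : X' ⟶ X}

include D in
/-- The fibre rank of a base change over a chart. -/
theorem Fam.fiberRank_baseChange (h : IsPullback g' f' f u) {W : T.Opens} (hW : IsAffineOpen W)
    (e : W ≤ u ⁻¹ᵁ V) {t : T} (ht : t ∈ W) :
    CohIII.fiberRank f' ((Scheme.Modules.pullback g').obj F) 0 t = CohIII.fiberRank f F 0 (u t) := by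
  letI : Algebra Γ(S, V) Γ(T, W) := sectionsAlg u e
  haveI : IsProper f' := MorphismProperty.of_isPullback h ‹IsProper f›
  have := QCohMod.isQCoh_pullback_obj g' F
  obtain ⟨M, ⟨e0⟩, ⟨e1⟩, ⟨eP⟩⟩ := D.chart h hW e
  have := D.fp₀
  have := D.fp₁
  have := D.free
  have := D.finite
  have h1 := Groth.CohC3.BC.fiberRank_add hW M ht 0
  have : Nontrivial Γ(T, W) := ⟨0, 1, fun h01 => (hW.primeIdealOf ⟨t, ht⟩).isPrime.ne_top
    ((Ideal.eq_top_iff_one _).2 (h01 ▸ Submodule.zero_mem _))⟩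
  have : Nontrivial Γ(S, V) := (algebraMap Γ(S, V) Γ(T, W)).domain_nontrivial
  have hc : (hW.primeIdealOf ⟨t, ht⟩).comap (algebraMap Γ(S, V) Γ(T, W)) =
      hV.primeIdealOf ⟨u t, e ht⟩ :=
    IsAffineOpen.comap_primeIdealOf_appLE (f := u) V hV W hW e ht
  have h2 : CohIII.fiberRank f' ((Scheme.Modules.pullback g').obj F) 0 t +
      Module.finrank Γ(S, V) D.P₀ =
      fdim D.Q₀ (hV.primeIdealOf ⟨u t, e ht⟩) + fdim D.Q₁ (hV.primeIdealOf ⟨u t, e ht⟩) := by
    rw [eP.finrank_eq, Module.finrank_baseChange, Groth.FlatCxBase.fdim_congr _ e0,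
      Groth.FlatCxBase.fdim_congr _ e1, fdim_baseChange, fdim_baseChange, hc] at h1
    exact h1
  have h3 := D.fiberRank_add (e ht)
  omega

include D in
/-- On a chart, epimorphy at the fibre is the free locus of the first cokernel. -/
theorem Fam.fibreEpi_iff (h : IsPullback g' f' f u) {W : T.Opens} (hW : IsAffineOpen W)
    (e : W ≤ u ⁻¹ᵁ V) {t : T} (ht : t ∈ W) :
    letI : Algebra Γ(S, V) Γ(T, W) := sectionsAlg u e
    FibreEpi f' ((Scheme.Modules.pullback g').obj F) t ↔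
      hW.primeIdealOf ⟨t, ht⟩ ∈ Module.freeLocus Γ(T, W) (Γ(T, W) ⊗[Γ(S, V)] D.Q₁) := by
  letI : Algebra Γ(S, V) Γ(T, W) := sectionsAlg u e
  haveI : IsProper f' := MorphismProperty.of_isPullback h ‹IsProper f›
  have := QCohMod.isQCoh_pullback_obj g' F
  obtain ⟨M, -, ⟨e1⟩, -⟩ := D.chart h hW e
  rw [← Module.freeLocus_congr e1]
  refine ⟨fun hepi => ?_, fun hmem => ?_⟩
  · have hpt : ∀ y, T.fromSpecResidueField t y = t :=
      fun y => Scheme.fromSpecResidueField_apply t y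
    have hK : IsField Γ(Spec (T.residueField t), ⊤) :=
      MulEquiv.isField (Field.toIsField (T.residueField t))
        (Scheme.ΓSpecIso (T.residueField t)).commRingCatIsoToRingEquiv.toMulEquiv
    let z : Spec (T.residueField t) := IsLocalRing.closedPoint (T.residueField t)
    have hmem := mem_freeLocus_of_epi M
      (IsPullback.of_hasPullback f' (T.fromSpecResidueField t)) hW (isAffineOpen_top _)
      (fun y _ => show T.fromSpecResidueField t y ∈ W by rw [hpt y]; exact ht) hK (z := z) trivial hepi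
    have e' : (⟨T.fromSpecResidueField t z, by rw [hpt z]; exact ht⟩ : W) = ⟨t, ht⟩ :=
      Subtype.ext (hpt z)
    rwa [show hW.primeIdealOf _ = hW.primeIdealOf ⟨t, ht⟩ from congrArg _ e'] at hmem
  · obtain ⟨c, hc, hgood⟩ := exists_goodAway M hW ht hmem
    exact fibreEpi_of_goodAt ⟨W, hW, M, c, hc, hgood⟩

include D in
/-- On a chart, epimorphy at the fibre gives a good point. -/
theorem Fam.goodAt_of_fibreEpi (h : IsPullback g' f' f u) [QuasiCompact f'] [QuasiSeparated f']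
    [((Scheme.Modules.pullback g').obj F).IsQuasicoherent] {W : T.Opens} (hW : IsAffineOpen W)
    (e : W ≤ u ⁻¹ᵁ V) {t : T} (ht : t ∈ W)
    (hepi : FibreEpi f' ((Scheme.Modules.pullback g').obj F) t) :
    GoodAt f' ((Scheme.Modules.pullback g').obj F) t := by
  letI : Algebra Γ(S, V) Γ(T, W) := sectionsAlg u e
  obtain ⟨M, -, ⟨e1⟩, -⟩ := D.chart h hW e
  have hmem := (D.fibreEpi_iff h hW e ht).1 hepi
  rw [← Module.freeLocus_congr e1] at hmem
  obtain ⟨c, hc, hgood⟩ := exists_goodAway M hW ht hmem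
  exact ⟨W, hW, M, c, hc, hgood⟩

end Groth.Limits.BC0
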