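import Groth.Agent.Limits.BC0.Vanish
import Groth.Agent.FibreVA.CurveFamily
import Groth.Agent.PicAux.PicLaw
import Groth.Agent.PropsBasic.LocFree
import Groth.Agent.PicAux.SeesawReduced

/-!
# Base change for invertible modules of large degree on families of curves
-/

universe u

open CategoryTheory Limits AlgebraicGeometry TopologicalSpace

set_option backward.isDefEq.respectTransparency.types false

namespace Groth.Limits.BC0

variable {X S : Scheme.{u}} (f : X ⟶ S)

/-- The fibre as a scheme over the residue field. -/
noncomputable local instance overResidueField (s : S) :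
    (f.fiber s).Over (Spec (CommRingCat.of (S.residueField s))) :=
  ⟨f.fiberToSpecResidueField s⟩

/-- The genus of a fibre is the rank of `H¹` of the structure sheaf. -/
theorem genus_fiber (s : S) :
    Curv2.genus (S.residueField s) (f.fiber s) =
      CohIII.fiberRank f (Coh.structureModule X) 1 s := by
  obtain ⟨e⟩ := Groth.PicAux.pullback_structure_iso (f.fiberι s)
  exact (Groth.EulerDeg.hEquiv (S.residueField s) e 1).finrank_eq.symm

variable [IsProper f] [Smooth f] [GeometricallyConnected f]

/-- Facts on the fibres of a family of smooth curves. -/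
theorem fiber_curve (hdim : ∀ s : S, topologicalKrullDim ↥(f.fiber s) = 1) (s : S) :
    IsIntegral (f.fiber s) ∧
      IsProper ((f.fiber s) ↘ Spec (CommRingCat.of (S.residueField s))) ∧
      Module.finrank (S.residueField s) (Coh.HH (f.fiber s) (Coh.structureModule (f.fiber s)) 0)
        = 1 := by
  let k := S.residueField s
  have : IsProper ((f.fiber s) ↘ Spec (CommRingCat.of k)) :=
    MorphismProperty.pullback_snd (P := @IsProper) _ _ ‹_›
  have : Smooth ((f.fiber s) ↘ Spec (CommRingCat.of k)) :=
    MorphismProperty.pullback_snd (P := @Smooth) _ _ ‹_›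
  have : GeometricallyConnected ((f.fiber s) ↘ Spec (CommRingCat.of k)) :=
    MorphismProperty.pullback_snd (P := @GeometricallyConnected) _ _ ‹_›
  have := Groth.CurveBridge.connectedSpace_of_geometrically (f.fiber s) k
  exact ⟨Groth.CurveBridge.isIntegral_of_smooth k (f.fiber s), ‹_›,
    Groth.CurveBridge.h0_of_geometrically k (f.fiber s) (hdim s)⟩

/-- Invertible modules of degree at least `2g - 1` on a fibre have no `H¹` there. -/
theorem subsingleton_fiberH_one (hdim : ∀ s : S, topologicalKrullDim ↥(f.fiber s) = 1)
    {L : X.Modules} (hL : PicF.IsInvertible L) (s : S)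
    (hdeg : 2 * (Curv2.genus (S.residueField s) (f.fiber s) : ℤ) - 1 ≤
      Curv2.deg (S.residueField s) (f.fiber s) (CohIII.fiberMod f L s) 1) :
    Subsingleton (CohIII.fiberH f L s 1) := by
  obtain ⟨hI, hp, h0⟩ := fiber_curve f hdim s
  exact Groth.Curves1.RR.subsingleton_h1_of_deg_ge (S.residueField s) (hdim s).le h0
    (Groth.PicAux.isInvertible_pullback (f.fiberι s) hL) hdeg

/-- Invertible modules of degree at least `2g - 1` on a fibre are good there. -/
theorem goodAt_of_deg (hdim : ∀ s : S, topologicalKrullDim ↥(f.fiber s) = 1)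
    {L : X.Modules} [L.IsQuasicoherent] (hL : PicF.IsInvertible L) (s : S)
    (hdeg : 2 * (Curv2.genus (S.residueField s) (f.fiber s) : ℤ) - 1 ≤
      Curv2.deg (S.residueField s) (f.fiber s) (CohIII.fiberMod f L s) 1) :
    GoodAt f L s :=
  goodAt_of_vanish (Groth.PropsBasic.LocFree.isFP_of_isFinLocFree L fun x =>
      let ⟨U, hx, e⟩ := Groth.LocFree.isInvertible_iff_ofRank_one.mp hL x
      ⟨U, 1, hx, e⟩)
    (Groth.PicAux.Seesaw.isFlatOver_of_isInvertible f hL) s (subsingleton_fiberH_one f hdim hL s hdeg)

end Groth.Limits.BC0
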