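import Groth.Agent.Limits.BC0.Curves
import Groth.Agent.Limits.BC0.Chart
import Groth.Agent.Limits.BC0.Rank
import Groth.Agent.Curves1.RR.LinEquiv
import Groth.Agent.Curves1.RR.GlobGen
import Groth.Agent.Curves1.RR.Powers
import Groth.Agent.ZetaAn.ElemFibration
import Groth.Agent.AdicLinTop.Thickenings
import Groth.Agent.RefRank.EffCartierLocal
import Groth.Agent.S15990

/-!
# The invertible module of a section of a family of curves

For a section `x` of a family of smooth connected curves of positive genus the direct image of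
`O(x)` is invertible, generated by the canonical section.
-/

universe u

open CategoryTheory Limits AlgebraicGeometry TopologicalSpace Opposite
open Groth.PicAux

set_option backward.isDefEq.respectTransparency.types false

namespace Groth.Limits.BC0.CurveSection

variable {X S : Scheme.{u}} (f : X ⟶ S) [IsProper f] [Smooth f] [GeometricallyConnected f]
  (hdim : ∀ s : S, topologicalKrullDim ↥(f.fiber s) = 1)

noncomputable local instance overResidueField' (s : S) :
    (f.fiber s).Over (Spec (CommRingCat.of (S.residueField s))) :=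
  ⟨f.fiberToSpecResidueField s⟩

include hdim

/-- A family of smooth connected curves is smooth of relative dimension one. -/
theorem smoothOfRelativeDimension_one : SmoothOfRelativeDimension 1 f := by
  have hfd : ∀ x : X, FlatMor.fibreDimAt f x = 1 := fun x => by
    let s := f.base x
    let g := f.fiberToSpecResidueField s
    obtain ⟨hint, -, -⟩ := fiber_curve f hdim s
    have : Smooth g := MorphismProperty.pullback_snd (P := @Smooth) _ _ ‹_›
    have := Groth.CurveDiv.smoothOfRelativeDimension_one_of_curve (k := S.residueField s) g (hdim s)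
    have h := Groth.FibreDim.localDim_eq_add_of_flat g 1
      (Groth.FibreDim.fibreDimAt_eq_of_smoothOfRelativeDimension 1 g) (f.asFiber x)
    erw [Groth.CurveDiv.localDim_spec_field (S.residueField s), zero_add] at h
    rw [FlatMor.fibreDimAt, h, Nat.cast_one]
  have hcov : ∀ x : X, ∃ W : X.Opens, x ∈ W ∧ SmoothOfRelativeDimension 1 (W.ι ≫ f) := fun x => by
    obtain ⟨n, W, hxW, hn⟩ := Groth.AlgSp3.exists_open_smoothOfRelativeDimension f x
    have e := Groth.FibreDim.fibreDimAt_eq_of_smoothOfRelativeDimension n (W.ι ≫ f) ⟨x, hxW⟩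
    rw [Groth.FibreDim.fibreDimAt_openImmersion_comp, hfd] at e
    obtain rfl : n = 1 := by exact_mod_cast e.symm
    exact ⟨W, hxW, hn⟩
  choose W hW hs using hcov
  exact IsZariskiLocalAtSource.of_iSup_eq_top (P := @SmoothOfRelativeDimension 1) W
    (eq_top_iff.2 fun x _ => Opens.mem_iSup.2 ⟨x, hW x⟩) hs

variable (x : S ⟶ X) (hx : x ≫ f = 𝟙 S)

include hx

/-- The ideal of a section is effective Cartier. -/
theorem isEffCartier_ker : IsClosedImmersion x ∧ BlowUp.IsEffCartierIdeal x.ker := by
  have := smoothOfRelativeDimension_one f hdim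
  refine ⟨?_, (Groth.Agent.S15990.result f x hx).1⟩
  have : IsClosedImmersion (x ≫ f) := by rw [hx]; infer_instance
  exact IsClosedImmersion.of_comp x f

/-- The restriction of the ideal of a section to a fibre is the ideal of a rational point. -/
theorem fibre_point (s : S) :
    letI := fun t => Curv2.resAlgebra (S.residueField s) (f.fiber s) t
    ∃ (t : f.fiber s) (ht : IsClosed ({t} : Set (f.fiber s))),
      x.ker.comap (f.fiberι s) = Groth.Curves1.RR.pointIdeal t ht ∧
      BlowUp.IsEffCartierIdeal (x.ker.comap (f.fiberι s)) ∧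
      Module.finrank (S.residueField s) ((f.fiber s).residueField t) = 1 := by
  obtain ⟨hxc, -⟩ := isEffCartier_ker f hdim x hx
  obtain ⟨-, hp, -⟩ := fiber_curve f hdim s
  let xs : Spec (S.residueField s) ⟶ f.fiber s :=
    pullback.lift (S.fromSpecResidueField s ≫ x) (𝟙 _)
      (by rw [Category.assoc, hx, Category.comp_id, Category.id_comp])
  have e1 : xs ≫ f.fiberι s = S.fromSpecResidueField s ≫ x := pullback.lift_fst _ _ _
  have e2 : xs ≫ f.fiberToSpecResidueField s = 𝟙 _ := pullback.lift_snd _ _ _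
  have houter : IsPullback (S.fromSpecResidueField s) (xs ≫ f.fiberToSpecResidueField s) (x ≫ f)
      (S.fromSpecResidueField s) := by
    rw [e2, hx]
    exact IsPullback.of_vert_isIso ⟨by simp⟩
  have sq : IsPullback xs (S.fromSpecResidueField s) (f.fiberι s) x :=
    (IsPullback.of_bot houter e1.symm (IsPullback.of_hasPullback f (S.fromSpecResidueField s))).flip
  have hker := Groth.AdicLinTop.Thickenings.ker_eq_comap_of_isPullback sq
  obtain ⟨-, t, ht, hkt, hres⟩ :=
    Groth.Curves1.RR.exists_point_of_section (S.residueField s) xs e2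
  refine ⟨t, ht, hker.symm.trans hkt, ?_, hres⟩
  rw [← hker]
  have : Smooth (f.fiberToSpecResidueField s) :=
    MorphismProperty.pullback_snd (P := @Smooth) _ _ ‹_›
  have : IsSeparated (f.fiberToSpecResidueField s) :=
    MorphismProperty.pullback_snd (P := @IsSeparated) _ _ inferInstance
  obtain ⟨hint, -, -⟩ := fiber_curve f hdim s
  have := Groth.CurveDiv.smoothOfRelativeDimension_one_of_curve (k := S.residueField s)
    (f.fiberToSpecResidueField s) (hdim s)
  exact (Groth.Agent.S15990.result (f.fiberToSpecResidueField s) xs e2).1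

variable {L : X.Modules} (hL : PicF.IsInvertible L)
  (hLx : ClSub.IsInverseOf L (ClSub.idealMod x.ker))

include hL hLx

/-- The degree of `O(x)` on a fibre is one. -/
theorem deg_fiber (s : S) :
    Curv2.deg (S.residueField s) (f.fiber s) (CohIII.fiberMod f L s) 1 = 1 := by
  obtain ⟨-, hp, -⟩ := fiber_curve f hdim s
  obtain ⟨-, hI⟩ := isEffCartier_ker f hdim x hx
  obtain ⟨t, ht, hk, hJ, hres⟩ := fibre_point f hdim x hx s
  obtain ⟨ψ⟩ := hLx
  obtain ⟨a⟩ := pullback_idealMod (f.fiberι s) hI hJ
  obtain ⟨b⟩ := pullback_tensorMod (f.fiberι s) hL (isInvertible_idealMod hI)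
  obtain ⟨c⟩ := pullback_structure_iso (f.fiberι s)
  rw [Groth.EulerDeg.deg_inverse_idealMod (S.residueField s) (hdim s).le hJ
      (isInvertible_pullback (f.fiberι s) hL)
      ⟨PicGrp.tensorModIso (Iso.refl _) a.symm ≪≫ b.symm ≪≫
        (Scheme.Modules.pullback (f.fiberι s)).mapIso ψ ≪≫ c⟩,
    hk, Groth.Curves1.RR.finrank_quotMod_pointIdeal, hres, Nat.cast_one]

/-- In positive genus `O(x)` has at most one independent section on a fibre. -/
theorem fiberRank_le_one (s : S) (hg : 1 ≤ CohIII.fiberRank f (Coh.structureModule X) 1 s) :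
    CohIII.fiberRank f L 0 s ≤ 1 := by
  obtain ⟨hint, hp, h0⟩ := fiber_curve f hdim s
  have hd := deg_fiber f hdim x hx hL hLx s
  rw [← genus_fiber f s] at hg
  by_contra hlt
  have hLs : PicF.IsInvertible (CohIII.fiberMod f L s) := isInvertible_pullback (f.fiberι s) hL
  have : Nontrivial (CohIII.fiberH f L s 0) :=
    Module.nontrivial_of_finrank_pos (R := S.residueField s)
      (show 0 < CohIII.fiberRank f L 0 s by omega)
  obtain ⟨-, h2⟩ := Groth.Curves1.RR.h0_le_deg_add_one (S.residueField s) (hdim s).le h0 hLs this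
  have h3 : Curv2.deg (S.residueField s) (f.fiber s) (CohIII.fiberMod f L s) 1 + 1 ≤
      (CohIII.fiberRank f L 0 s : ℤ) := by omega
  have := Groth.Curves1.RR.genus_eq_zero_of_h0_eq (S.residueField s) (hdim s).le h0 hLs
    (le_antisymm h2 h3) (by omega)
  omega

variable (σ : Coh.structureModule X ⟶ L) (hσ : PicF2.zeroScheme L σ = x.ker)

include hσ

/-- The canonical section restricts to a nonzero section on every fibre. -/
theorem pullSec_ne_zero (s : S) :
    pullSec (f.fiberι s) L (σ.app ⊤ (oneSec X ⊤)) ≠ 0 := by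
  intro h0
  obtain ⟨t, ht, hk, -, -⟩ := fibre_point f hdim x hx s
  have hne : ∃ t' : f.fiber s, t' ≠ t := by
    by_contra hall
    push Not at hall
    have : Subsingleton (f.fiber s) := ⟨fun a b => (hall a).trans (hall b).symm⟩
    have : Subsingleton (IrreducibleCloseds (f.fiber s)) := ⟨fun a b => IrreducibleCloseds.ext
      (a.isIrreducible.nonempty.eq_univ.trans b.isIrreducible.nonempty.eq_univ.symm)⟩
    have h2 : topologicalKrullDim (f.fiber s) ≤ 0 := Order.krullDim_nonpos_of_subsingleton
    rw [hdim s] at h2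
    exact absurd h2 (by norm_num)
  obtain ⟨t', ht'⟩ := hne
  have hy : f.fiberι s t' ∉ x.ker.support := by
    intro hy
    apply ht'
    have h1 : t' ∈ ((x.ker.comap (f.fiberι s)).support : Set (f.fiber s)) := by
      rw [Scheme.IdealSheafData.support_comap]
      exact hy
    rw [hk, Groth.Curves1.RR.support_pointIdeal] at h1
    exact h1
  obtain ⟨U, e, hU, hyU, he⟩ := exists_affine_gen_mem hL (f.fiberι s t')
  obtain ⟨W, hyW, hW⟩ := Divisors.exists_affine_le (f.fiberι s t')
    (U ⊓ ⟨(x.ker.support : Set X)ᶜ, x.ker.support.isClosed.isOpen_compl⟩) ⟨hyU, hy⟩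
  have he' := he.res (hW.trans inf_le_left)
  obtain ⟨c, hc⟩ := he'.exists_coeff le_rfl (σ.app W.1 (oneSec X W.1))
  rw [res_self] at hc
  have hspan := Variety2.Zero.zeroScheme_ideal_eq_span hL σ W he' hc
  rw [hσ, Groth.CurveDiv.ideal_eq_top_of_notMem fun y hy => (hW hy).2] at hspan
  have hcu : IsUnit c := Ideal.span_singleton_eq_top.1 hspan.symm
  have hg := he'.pull (f.fiberι s)
  have h1 : res _ (le_top : f.fiberι s ⁻¹ᵁ W.1 ≤ f.fiberι s ⁻¹ᵁ ⊤)
      (pullSec (f.fiberι s) L (σ.app ⊤ (oneSec X ⊤))) =
      (f.fiberι s).app W.1 c • pullSec (f.fiberι s) L (res L (hW.trans inf_le_left) e) := by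
    rw [← pullSec_smul, ← hc, ← res_app_oneSec σ (le_top : W.1 ≤ ⊤)]
    exact res_pullSec (f.fiberι s) L (le_top : W.1 ≤ ⊤) _
  rw [h0] at h1
  erw [res_zero] at h1
  have h2 : ((f.fiberι s).app W.1 c : Γ(f.fiber s, f.fiberι s ⁻¹ᵁ W.1)) = 0 :=
    hg.smul_inj le_rfl (by rw [res_self, ← h1, zero_smul])
  have hu : IsUnit (0 : Γ(f.fiber s, f.fiberι s ⁻¹ᵁ W.1)) :=
    h2 ▸ hcu.map ((f.fiberι s).app W.1).hom
  have : Nonempty (f.fiberι s ⁻¹ᵁ W.1 : (f.fiber s).Opens) := ⟨⟨t', hyW⟩⟩
  exact not_isUnit_zero hu

end Groth.Limits.BC0.CurveSection
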