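import Mathlib.AlgebraicGeometry.Morphisms.Immersion
import Mathlib.AlgebraicGeometry.Morphisms.FinitePresentation
import Mathlib.AlgebraicGeometry.Gluing

/-!
# A locally closed subscheme cut out by two finitely generated ideals
-/

universe u

open CategoryTheory Limits AlgebraicGeometry TopologicalSpace

namespace Groth.Limits.BC0

section Spec

variable {C : Type u} [CommRing C] (I J : Ideal C)

/-- The closed subscheme of the first ideal. -/
noncomputable def stratumClosed : Spec (CommRingCat.of (C ⧸ I)) ⟶ Spec (CommRingCat.of C) :=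
  Spec.map (CommRingCat.ofHom (Ideal.Quotient.mk I))

/-- The open complement of the second ideal. -/
noncomputable def stratumOpen : (Spec (CommRingCat.of C)).Opens :=
  ⟨(PrimeSpectrum.zeroLocus (J : Set C))ᶜ, (PrimeSpectrum.isClosed_zeroLocus _).isOpen_compl⟩

/-- The stratum. -/
noncomputable abbrev stratum : Scheme.{u} := (stratumClosed I ⁻¹ᵁ stratumOpen J).toScheme

/-- The inclusion of the stratum. -/
noncomputable def stratumι : stratum I J ⟶ Spec (CommRingCat.of C) :=
  (stratumClosed I ⁻¹ᵁ stratumOpen J).ι ≫ stratumClosed I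

theorem stratum_factors_iff {B : Type u} [CommRing B] (ψ : C →+* B) :
    (∃ h : Spec (CommRingCat.of B) ⟶ stratum I J,
        h ≫ stratumι I J = Spec.map (CommRingCat.ofHom ψ)) ↔
      I.map ψ = ⊥ ∧ J.map ψ = ⊤ := by
  constructor
  · rintro ⟨h, hh⟩
    refine ⟨?_, ?_⟩
    · obtain ⟨φ, hφ⟩ : ∃ φ, Spec.map φ = h ≫ (stratumClosed I ⁻¹ᵁ stratumOpen J).ι :=
        ⟨Spec.preimage _, Spec.map_preimage _⟩
      have : Spec.map (CommRingCat.ofHom (Ideal.Quotient.mk I) ≫ φ) =
          Spec.map (CommRingCat.ofHom ψ) := by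
        rw [Spec.map_comp, hφ, Category.assoc]
        exact hh
      have h2 := congrArg CommRingCat.Hom.hom (Spec.map_injective this)
      rw [CommRingCat.hom_comp, CommRingCat.hom_ofHom, CommRingCat.hom_ofHom] at h2
      rw [← h2, ← Ideal.map_map, Ideal.map_quotient_self, Ideal.map_bot]
    · by_contra hne
      obtain ⟨p, hp, hle⟩ := Ideal.exists_le_maximal _ hne
      let x : Spec (CommRingCat.of B) := ⟨p, hp.isPrime⟩
      have hx : Spec.map (CommRingCat.ofHom ψ) x ∈ stratumOpen J := by
        rw [← hh, Scheme.Hom.comp_apply, stratumι, Scheme.Hom.comp_apply]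
        exact (h x).2
      exact hx (show J ≤ p.comap ψ from Ideal.map_le_iff_le_comap.1 hle)
  · rintro ⟨hI, hJ⟩
    let φ : C ⧸ I →+* B := Ideal.Quotient.lift I ψ fun a ha => by
      simpa [hI] using Ideal.mem_map_of_mem ψ ha
    have hφ : Spec.map (CommRingCat.ofHom φ) ≫ stratumClosed I =
        Spec.map (CommRingCat.ofHom ψ) := by
      rw [stratumClosed, ← Spec.map_comp]
      rfl
    refine ⟨IsOpenImmersion.lift (stratumClosed I ⁻¹ᵁ stratumOpen J).ι
      (Spec.map (CommRingCat.ofHom φ)) ?_, ?_⟩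
    · rw [Scheme.Opens.range_ι]
      rintro _ ⟨x, rfl⟩
      change stratumClosed I (Spec.map (CommRingCat.ofHom φ) x) ∈ stratumOpen J
      rw [← Scheme.Hom.comp_apply, hφ]
      intro hx
      have : J.map ψ ≤ x.asIdeal := Ideal.map_le_iff_le_comap.2 hx
      rw [hJ] at this
      exact x.isPrime.ne_top (top_le_iff.1 this)
    · rw [stratumι, IsOpenImmersion.lift_fac_assoc, hφ]

theorem isImmersion_stratumι : IsImmersion (stratumι I J) := by
  have : IsClosedImmersion (stratumClosed I) :=
    IsClosedImmersion.spec_of_surjective _ Ideal.Quotient.mk_surjective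
  unfold stratumι
  infer_instance

theorem quasiCompact_stratumι (hJ : J.FG) : QuasiCompact (stratumι I J) := by
  have : IsClosedImmersion (stratumClosed I) :=
    IsClosedImmersion.spec_of_surjective _ Ideal.Quotient.mk_surjective
  have hc :=
    (stratumClosed I).isCompact_preimage (U := stratumOpen J)
      (PrimeSpectrum.isCompact_isOpen_iff_ideal.2 ⟨J, hJ, rfl⟩).1
  have : CompactSpace (stratum I J) := isCompact_iff_compactSpace.1 hc
  exact quasiCompact_of_compactSpace _

theorem lfp_stratumι (hI : I.FG) : LocallyOfFinitePresentation (stratumι I J) := by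
  have : LocallyOfFinitePresentation (stratumClosed I) := by
    rw [stratumClosed, HasRingHomProperty.Spec_iff (P := @LocallyOfFinitePresentation)]
    exact RingHom.FinitePresentation.of_surjective _ Ideal.Quotient.mk_surjective
      (by rw [CommRingCat.hom_ofHom, Ideal.mk_ker]; exact hI)
  unfold stratumι
  infer_instance

end Spec

/-- Two finitely generated ideals on an affine open cut out a subscheme with its universal
property. -/
theorem exists_immersion_ideals {S : Scheme.{u}} {V : S.Opens} (hV : IsAffineOpen V)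
    (I J : Ideal Γ(S, V)) (hI : I.FG) (hJ : J.FG) :
    ∃ (Z : Scheme.{u}) (e : Z ⟶ V), IsImmersion e ∧ QuasiCompact e ∧
      LocallyOfFinitePresentation e ∧
      ∀ (T : Scheme.{u}) (g : T ⟶ V), (∃ h : T ⟶ Z, h ≫ e = g) ↔
        ∀ (W : T.Opens) (_ : IsAffineOpen W) (hle : W ≤ (g ≫ V.ι) ⁻¹ᵁ V),
          I.map ((g ≫ V.ι).appLE V W hle).hom = ⊥ ∧ J.map ((g ≫ V.ι).appLE V W hle).hom = ⊤ := by
  have := isImmersion_stratumι I J
  have := quasiCompact_stratumι I J hJ
  have := lfp_stratumι I J hI
  refine ⟨stratum I J, stratumι I J ≫ hV.isoSpec.inv, inferInstance, inferInstance, inferInstance,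
    fun T g => ?_⟩
  have key : ∀ (W : T.Opens) (hW : IsAffineOpen W) (hle : W ≤ (g ≫ V.ι) ⁻¹ᵁ V),
      Spec.map ((g ≫ V.ι).appLE V W hle) = hW.fromSpec ≫ g ≫ hV.isoSpec.hom := by
    intro W hW hle
    have h1 := IsAffineOpen.SpecMap_appLE_fromSpec (g ≫ V.ι) hV hW hle
    rw [← cancel_mono hV.isoSpec.inv, Category.assoc, Category.assoc, Iso.hom_inv_id,
      Category.comp_id, ← cancel_mono V.ι, Category.assoc, Category.assoc,
      IsAffineOpen.isoSpec_inv_ι]
    exact h1
  constructor
  · rintro ⟨h, rfl⟩ W hW hle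
    refine (stratum_factors_iff I J _).1 ⟨hW.fromSpec ≫ h, ?_⟩
    rw [show CommRingCat.ofHom (((h ≫ stratumι I J ≫ hV.isoSpec.inv) ≫ V.ι).appLE V W hle).hom =
      ((h ≫ stratumι I J ≫ hV.isoSpec.inv) ≫ V.ι).appLE V W hle from rfl, key W hW hle]
    simp
  · intro hall
    have hmono : Mono (stratumι I J ≫ hV.isoSpec.inv) := inferInstance
    have hloc : ∀ i, ∃ k : T.affineCover.X i ⟶ stratum I J,
        k ≫ stratumι I J ≫ hV.isoSpec.inv = T.affineCover.f i ≫ g := by
      intro i
      let W := (T.affineCover.f i).opensRange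
      have hW : IsAffineOpen W := isAffineOpen_opensRange _
      have hle : W ≤ (g ≫ V.ι) ⁻¹ᵁ V := fun x _ => (g x).2
      obtain ⟨k₀, hk₀⟩ := (stratum_factors_iff I J _).2 (hall W hW hle)
      let a : T.affineCover.X i ⟶ Spec Γ(T, W) := IsOpenImmersion.lift hW.fromSpec
        (T.affineCover.f i) (by rw [hW.range_fromSpec]; rfl)
      have ha : a ≫ hW.fromSpec = T.affineCover.f i := IsOpenImmersion.lift_fac _ _ _
      refine ⟨a ≫ k₀, ?_⟩
      rw [Category.assoc, reassoc_of% hk₀,
        show CommRingCat.ofHom ((g ≫ V.ι).appLE V W hle).hom = (g ≫ V.ι).appLE V W hle from rfl,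
        key W hW hle]
      simp [reassoc_of% ha]
    let 𝒰 := T.affineCover
    choose k hk using hloc
    refine ⟨𝒰.glueMorphisms k fun i j => ?_, 𝒰.hom_ext _ _ fun i => ?_⟩
    · rw [← cancel_mono (stratumι I J ≫ hV.isoSpec.inv), Category.assoc]
      refine (congrArg (pullback.fst _ _ ≫ ·) (hk i)).trans ?_
      refine Eq.trans ?_ ((Category.assoc _ _ _).trans
        (congrArg (pullback.snd _ _ ≫ ·) (hk j))).symm
      exact pullback.condition_assoc g
    · erw [Scheme.Cover.ι_glueMorphisms_assoc]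
      exact hk i

end Groth.Limits.BC0
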