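import Groth.Agent.CohC3.BC.Descent

/-!
# Models of all base changes with linked cokernels
-/

universe u

open CategoryTheory Limits AlgebraicGeometry TopologicalSpace Opposite HomologicalComplex
open scoped TensorProduct
open Groth.CohBase Groth.CohBase.CxRank Groth.FlatCxBase Groth.CohC3.BC
open Groth.PicAux (pullSec pullSec_map pullSec_comp)

set_option maxHeartbeats 800000
set_option backward.isDefEq.respectTransparency false
set_option backward.defeqAttrib.useBackward true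
set_option backward.isDefEq.respectTransparency.types false

namespace Groth.Limits.BC0

variable {A₀ : Type u} [CommRing A₀] [IsNoetherianRing A₀] {X₀ : Scheme.{u}}
  [X₀.Over (Spec (CommRingCat.of A₀))] [IsProper (X₀ ↘ Spec (CommRingCat.of A₀))]

/-- One complex over the Noetherian ring gives models of all base changes. -/
theorem exists_models_of_noetherian (F : X₀.Modules) (hF : Coh.IsCoh F)
    (hfl : FlatMod.IsFlatOver (X₀ ↘ Spec (CommRingCat.of A₀)) F) :
    ∃ (Q P : ℕ → ModuleCat.{u} A₀), (∀ p, Module.FinitePresentation A₀ (Q p)) ∧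
      Module.Flat A₀ (Q 0) ∧ (∀ p, Module.Free A₀ (P p)) ∧ (∀ p, Module.Finite A₀ (P p)) ∧
      ∀ (A : Type u) [CommRing A] [Algebra A₀ A] (U : Scheme.{u})
        (q : U ⟶ Spec (CommRingCat.of A)) (r : U ⟶ X₀)
        (_ : IsPullback r q (X₀ ↘ Spec (CommRingCat.of A₀))
          (Spec.map (CommRingCat.ofHom (algebraMap A₀ A)))) (G : U.Modules) (_ : G.IsQuasicoherent)
        (_ : (Scheme.Modules.pullback r).obj F ≅ G),
        ∃ M : Model q G, (∀ p, Nonempty (M.Q p ≃ₗ[A] A ⊗[A₀] Q p)) ∧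
          ∀ p, Nonempty (M.P p ≃ₗ[A] A ⊗[A₀] P p) := by
  let p₀ := X₀ ↘ Spec (CommRingCat.of A₀)
  have := hF.1
  have : CompactSpace X₀ := CohFin.compactSpace_of_proper p₀
  have : X₀.IsSeparated := CohFin.isSeparated_of_proper p₀
  obtain ⟨cov⟩ := exists_goodCover X₀
  obtain ⟨L, φ, hL, ⟨b, hb⟩, hq⟩ := exists_finiteFree_qis A₀ cov F hfl
    fun p => CohFin.hFin_of_proper CohFin.projFinite p X₀ p₀ F hF
  have := fun i => (hL i).1
  have := fun i => (hL i).2
  have : ∀ i, Module.Flat A₀ (L.X i) := fun i => inferInstance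
  have h0 : Module.Flat A₀ (Qc L ((0 : ℕ) : ℤ)) := by
    rw [show ((0 : ℕ) : ℤ) = -1 + 1 by norm_num]
    exact flat_Qc_succ_of_isZero L (-1) fun M => by
      refine IsZero.of_iso ?_ ((tFunIso φ (-1) hq).app M)
      refine (isZero_T_iff _ (cochain_prev (-1)) (cochain_next (-1)) M).2 fun x _ => ⟨0, ?_⟩
      have := ModuleCat.subsingleton_of_isZero
        (isZero_cxA_of_neg A₀ cov.U F (i := -1) (by omega))
      exact Subsingleton.elim _ _
  refine ⟨fun p => ModuleCat.of A₀ (Qc L (p : ℤ)), fun p => L.X ((p : ℤ) + 1),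
    fun p => Module.finitePresentation_of_finite A₀ _, h0, fun p => inferInstance,
    fun p => inferInstance, fun A _ _ U q r hr G hG α => ?_⟩
  letI : U.Over (Spec (CommRingCat.of A)) := ⟨q⟩
  choose e₀ he₀ using fun p => exists_linEquiv cov F (B := A) (Y := U) (g := r) hr α φ hq p
  have hnext : ∀ p : ℕ, (((p + 1 : ℕ) : ℤ) - 1) = (p : ℤ) := fun p => by simp
  refine ⟨{
    Q := fun p => ModuleCat.of A (A ⊗[A₀] Qc L (p : ℤ))
    P := fun p => ModuleCat.of A (A ⊗[A₀] L.X ((p : ℤ) + 1))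
    d := fun p => (dq L (p : ℤ)).baseChange A
    π := fun p => (cokerπ L (((p + 1 : ℕ) : ℤ) - 1) ((p + 1 : ℕ) : ℤ)).baseChange A
    exact := fun p => ?_
    surjective := fun p =>
      LinearMap.baseChange_surjective (R := A₀)
        (g := cokerπ L (((p + 1 : ℕ) : ℤ) - 1) ((p + 1 : ℕ) : ℤ)) A (Submodule.mkQ_surjective _)
    free := fun p => inferInstanceAs (Module.Free A (A ⊗[A₀] L.X ((p : ℤ) + 1)))
    finite := fun p => inferInstanceAs (Module.Finite A (A ⊗[A₀] L.X ((p : ℤ) + 1)))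
    finitePresentation := fun p => ?_
    flat_zero := ?_
    bdd := ⟨b.toNat, fun p hp => ?_⟩
    e₀ := e₀
    exists_e := ?_ }, fun p => ⟨LinearEquiv.refl A _⟩, fun p => ⟨LinearEquiv.refl A _⟩⟩
  · refine lTensor_exact A (LinearMap.exact_iff.2 ?_) (Submodule.mkQ_surjective _)
    rw [Submodule.ker_mkQ, range_dq, hnext]
    rfl
  · have : Module.FinitePresentation A₀ (Qc L (p : ℤ)) := Module.finitePresentation_of_finite A₀ _
    exact inferInstanceAs (Module.FinitePresentation A (A ⊗[A₀] Qc L (p : ℤ)))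
  · have h0 : Module.Flat A₀ (Qc L ((-1 : ℤ) + 1)) := flat_Qc_succ_of_isZero L (-1) fun M => by
      refine IsZero.of_iso ?_ ((tFunIso φ (-1) hq).app M)
      refine (isZero_T_iff _ (cochain_prev (-1)) (cochain_next (-1)) M).2 fun x _ => ⟨0, ?_⟩
      have := ModuleCat.subsingleton_of_isZero
        (isZero_cxA_of_neg A₀ cov.U F (i := -1) (by omega))
      exact Subsingleton.elim _ _
    have : Module.Flat A₀ (Qc L ((0 : ℕ) : ℤ)) := by
      rwa [show ((0 : ℕ) : ℤ) = -1 + 1 by norm_num]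
    exact inferInstanceAs (Module.Flat A (A ⊗[A₀] Qc L ((0 : ℕ) : ℤ)))
  · have := ModuleCat.subsingleton_of_isZero (hb (p : ℤ) (by omega))
    have : Subsingleton (Qc L (p : ℤ)) := (Submodule.mkQ_surjective _).subsingleton
    exact inferInstanceAs (Subsingleton (A ⊗[A₀] Qc L (p : ℤ)))
  · intro B _ _ Y qY u hu p
    letI : Algebra A₀ B := ((algebraMap A B).comp (algebraMap A₀ A)).toAlgebra
    have : IsScalarTower A₀ A B := IsScalarTower.of_algebraMap_eq fun _ => rfl
    letI : Y.Over (Spec (CommRingCat.of B)) := ⟨qY⟩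
    have hsq : IsBC (A := A₀) (A' := B) (u ≫ r) := by
      have h := hu.paste_horiz hr
      rw [← Spec.map_comp] at h
      exact h
    let θ : (Scheme.Modules.pullback (u ≫ r)).obj F ≅ (Scheme.Modules.pullback u).obj G :=
      ((Scheme.Modules.pullbackComp u r).symm.app F) ≪≫ (Scheme.Modules.pullback u).mapIso α
    have : ((Scheme.Modules.pullback u).obj G).IsQuasicoherent :=
      QCohMod.isQCoh_pullback_obj u G
    obtain ⟨e, he⟩ := exists_linEquiv cov F (Y := Y) hsq θ φ hq p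
    refine ⟨(kerCancelEquiv (A := A) (dq L (p : ℤ))).trans e, fun x z hz => ?_⟩
    obtain ⟨w, hw⟩ := cycToKer_surjective L (ModuleCat.of A₀ A) (p : ℤ)
      (kerCommEquiv (dq L (p : ℤ)) x)
    have hw₀ : TensorProduct.comm A₀ A (Qc L (p : ℤ)) x.1 =
        (cokerπ L ((p : ℤ) - 1) p).rTensor A w.1 := (congrArg Subtype.val hw).symm
    let ψ := IsScalarTower.toAlgHom A₀ A B
    let w' : LinearMap.ker ((L.d (p : ℤ) ((p : ℤ) + 1)).hom.rTensor B) :=
      ⟨ψ.toLinearMap.lTensor (L.X (p : ℤ)) w.1,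
        lTensor_mem_ker L (ModuleCat.of A₀ A) (ModuleCat.ofHom (Y := ModuleCat.of A₀ B) ψ.toLinearMap) w⟩
    have hw₁ : TensorProduct.comm A₀ B (Qc L (p : ℤ))
        (kerCancelEquiv (A := A) (dq L (p : ℤ)) z).1 = (cokerπ L ((p : ℤ) - 1) p).rTensor B w'.1 := by
      rw [kerCancelEquiv_coe, hz]
      refine (congrArg _ (cancelBaseChange_one_tmul x.1)).trans ?_
      refine (comm_rTensor ψ.toLinearMap x.1).trans ?_
      rw [hw₀]
      exact lTensor_rTensor (cokerπ L ((p : ℤ) - 1) p) ψ.toLinearMap w.1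
    refine (he _ _ hw₁).trans ?_
    refine Eq.trans ?_ (congrArg (CohPull.pullMod u G p) (he₀ p x w hw₀)).symm
    refine Eq.trans ?_ (mapH_id _ p _)
    refine (mapH_pullMod_cycToHH cov F (Y := U) hr α u hsq θ ψ hu.w (𝟙 _) (fun W m => ?_) p _ _ ?_).symm
    · change pullSec u G (α.hom.app (r ⁻¹ᵁ W) (pullSec r F m)) =
        ((Scheme.Modules.pullback u).map α.hom).app _
          (((Scheme.Modules.pullbackComp u r).inv.app F).app _ (pullSec (u ≫ r) F m))
      refine Eq.trans ?_ (congrArg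
        (((Scheme.Modules.pullback u).map α.hom).app (u ⁻¹ᵁ r ⁻¹ᵁ W))
        (Groth.CohCmpLib.pullbackComp_inv_pullSec u r F m)).symm
      exact (pullSec_map u α.hom _).symm
    · exact (lTensor_rTensor (φ.f (p : ℤ)).hom ψ.toLinearMap w.1).symm


/-- A family of models of all base changes of a flat module of finite presentation. -/
theorem exists_model_family {A : Type u} [CommRing A] {U : Scheme.{u}}
    (q : U ⟶ Spec (CommRingCat.of A)) [IsProper q] [LocallyOfFinitePresentation q] (G : U.Modules)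
    [G.IsQuasicoherent] (hG : CohB1.IsFP G) (hfl : FlatMod.IsFlatOver q G) :
    ∃ (Q₀ Q₁ P₀ : ModuleCat.{u} A), Module.FinitePresentation A Q₀ ∧ Module.Projective A Q₀ ∧
      Module.FinitePresentation A Q₁ ∧ Module.Free A P₀ ∧ Module.Finite A P₀ ∧
      ∀ (B : Type u) [CommRing B] [Algebra A B] (Y : Scheme.{u})
        (qY : Y ⟶ Spec (CommRingCat.of B)) (u : Y ⟶ U)
        (_ : IsPullback u qY q (Spec.map (CommRingCat.ofHom (algebraMap A B)))) (G' : Y.Modules)
        (_ : G'.IsQuasicoherent) (_ : (Scheme.Modules.pullback u).obj G ≅ G'),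
        ∃ M : Model qY G', Nonempty (M.Q 0 ≃ₗ[B] B ⊗[A] Q₀) ∧
          Nonempty (M.Q 1 ≃ₗ[B] B ⊗[A] Q₁) ∧ Nonempty (M.P 0 ≃ₗ[B] B ⊗[A] P₀) := by
  obtain ⟨A₀, _, _, φ, X₀, q₀, r, F₀, hq₀, hr, hF₀, hfl₀, ⟨α⟩⟩ :=
    exists_noetherian_data q G hG hfl
  letI : X₀.Over (Spec (CommRingCat.of A₀)) := ⟨q₀⟩
  haveI : IsProper (X₀ ↘ Spec (CommRingCat.of A₀)) := hq₀
  letI : Algebra A₀ A := φ.toAlgebra
  obtain ⟨Q, P, hQ, hQ0, hPf, hPfin, hmodel⟩ := exists_models_of_noetherian F₀ hF₀ hfl₀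
  have := hQ 0
  have := hQ 1
  have := hPf 0
  have := hPfin 0
  have : Module.Projective A₀ (Q 0) := Module.Flat.projective_of_finitePresentation
  refine ⟨ModuleCat.of A (A ⊗[A₀] Q 0), ModuleCat.of A (A ⊗[A₀] Q 1), ModuleCat.of A (A ⊗[A₀] P 0),
    inferInstanceAs (Module.FinitePresentation A (A ⊗[A₀] Q 0)),
    inferInstanceAs (Module.Projective A (A ⊗[A₀] Q 0)),
    inferInstanceAs (Module.FinitePresentation A (A ⊗[A₀] Q 1)),
    inferInstanceAs (Module.Free A (A ⊗[A₀] P 0)),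
    inferInstanceAs (Module.Finite A (A ⊗[A₀] P 0)), fun B _ _ Y qY u hu G' hG' β => ?_⟩
  letI : Algebra A₀ B := ((algebraMap A B).comp (algebraMap A₀ A)).toAlgebra
  have : IsScalarTower A₀ A B := IsScalarTower.of_algebraMap_eq fun _ => rfl
  have hsq : IsPullback (u ≫ r) qY q₀ (Spec.map (CommRingCat.ofHom (algebraMap A₀ B))) := by
    have h := hu.paste_horiz hr
    rw [← Spec.map_comp] at h
    exact h
  obtain ⟨M, hMQ, hMP⟩ := hmodel B Y qY (u ≫ r) hsq G' hG'
    (((Scheme.Modules.pullbackComp u r).app F₀).symm ≪≫ (Scheme.Modules.pullback u).mapIso α ≪≫ β)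
  obtain ⟨e0⟩ := hMQ 0
  obtain ⟨e1⟩ := hMQ 1
  obtain ⟨eP⟩ := hMP 0
  exact ⟨M,
    ⟨e0.trans (TensorProduct.AlgebraTensorModule.cancelBaseChange A₀ A B B (Q 0)).symm⟩,
    ⟨e1.trans (TensorProduct.AlgebraTensorModule.cancelBaseChange A₀ A B B (Q 1)).symm⟩,
    ⟨eP.trans (TensorProduct.AlgebraTensorModule.cancelBaseChange A₀ A B B (P 0)).symm⟩⟩

end Groth.Limits.BC0
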