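import Groth.Agent.Limits.BC0.Rank
import Groth.Agent.Limits.BC0.IdealStratum
import Groth.Agent.FlatStrata.Glue
import Groth.Agent.FlatStrata.Rank

/-!
# The stratum where the direct image has given rank universally
-/

universe u

open CategoryTheory Limits AlgebraicGeometry TopologicalSpace Opposite
open scoped TensorProduct
open Groth.CohBase (preimageToSpec exists_primeIdealOf_eq)
open Groth.CohC3.BC
open Groth.QCohMod (sectionsAlg)
open Groth.FlatCxBase (fdim)

set_option maxHeartbeats 800000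
set_option backward.isDefEq.respectTransparency false
set_option backward.defeqAttrib.useBackward true
set_option backward.isDefEq.respectTransparency.types false

namespace Groth.Limits.BC0

variable {X S : Scheme.{u}} (f : X ⟶ S) (F : X.Modules) (r : ℕ)

/-- The pointwise form of the condition on a base change. -/
def Cond (T : Scheme.{u}) (u : T ⟶ S) : Prop :=
  ∀ t : T, FibreEpi (pullback.snd f u) ((Scheme.Modules.pullback (pullback.fst f u)).obj F) t ∧
    CohIII.fiberRank f F 0 (u t) = r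

variable {f F r} [IsProper f] [LocallyOfFinitePresentation f] [F.IsQuasicoherent]
  (hF : CohB1.IsFP F) (hfl : FlatMod.IsFlatOver f F)

/-- An affine open around a point inside the preimage of another. -/
lemma exists_affine_le {T : Scheme.{u}} (t : T) (U : T.Opens) (ht : t ∈ U) :
    ∃ W : T.Opens, IsAffineOpen W ∧ t ∈ W ∧ W ≤ U := by
  obtain ⟨W, hW, htW, hle⟩ := exists_isAffineOpen_mem_and_subset (x := t) (U := U) ht
  exact ⟨W, hW, htW, hle⟩

include hF hfl

theorem Cond.comp {T T' : Scheme.{u}} (h : T' ⟶ T) (u : T ⟶ S) (hu : Cond f F r T u) :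
    Cond f F r T' (h ≫ u) := by
  intro t'
  refine ⟨?_, by rw [Scheme.Hom.comp_apply]; exact (hu (h t')).2⟩
  obtain ⟨V, hV, hVt, -⟩ := exists_affine_le (u (h t')) ⊤ trivial
  obtain ⟨D⟩ := nonempty_fam hF hfl hV
  obtain ⟨W, hW, htW, hWle⟩ := exists_affine_le (h t') (u ⁻¹ᵁ V) hVt
  obtain ⟨W', hW', htW', hW'le⟩ := exists_affine_le t' (h ⁻¹ᵁ W) htW
  have e' : W' ≤ (h ≫ u) ⁻¹ᵁ V := fun x hx => hWle (hW'le hx)
  rw [D.fibreEpi_iff (IsPullback.of_hasPullback f (h ≫ u)) hW' e' htW']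
  have h1 := (D.fibreEpi_iff (IsPullback.of_hasPullback f u) hW hWle htW).1 (hu (h t')).1
  letI : Algebra Γ(S, V) Γ(T, W) := sectionsAlg u hWle
  letI : Algebra Γ(S, V) Γ(T', W') := sectionsAlg (h ≫ u) e'
  letI : Algebra Γ(T, W) Γ(T', W') := sectionsAlg h hW'le
  have : IsScalarTower Γ(S, V) Γ(T, W) Γ(T', W') := IsScalarTower.of_algebraMap_eq fun a => by
    change ((h ≫ u).appLE V W' e').hom a = (h.appLE W W' hW'le).hom ((u.appLE V W hWle).hom a)
    rw [← CommRingCat.comp_apply, Scheme.Hom.appLE_comp_appLE]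
  rw [← Module.freeLocus_congr
    (TensorProduct.AlgebraTensorModule.cancelBaseChange Γ(S, V) Γ(T, W) Γ(T', W') Γ(T', W') D.Q₁)]
  refine Module.comap_freeLocus_le ?_
  show PrimeSpectrum.comap (h.appLE W W' hW'le).hom (hW'.primeIdealOf ⟨t', htW'⟩) ∈
    Module.freeLocus Γ(T, W) (Γ(T, W) ⊗[Γ(S, V)] D.Q₁)
  rw [IsAffineOpen.comap_primeIdealOf_appLE (f := h) W hW W' hW' hW'le htW']
  exact h1

theorem Cond.of_cover {T : Scheme.{u}} (u : T ⟶ S) (𝒰 : Scheme.OpenCover.{u} T)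
    (hu : ∀ i, Cond f F r (𝒰.X i) (𝒰.f i ≫ u)) : Cond f F r T u := by
  intro t
  obtain ⟨i, t', rfl⟩ := 𝒰.exists_eq t
  refine ⟨?_, by have := (hu i t').2; rwa [Scheme.Hom.comp_apply] at this⟩
  let j := 𝒰.f i
  obtain ⟨V, hV, hVt, -⟩ := exists_affine_le (u (j t')) ⊤ trivial
  obtain ⟨D⟩ := nonempty_fam hF hfl hV
  obtain ⟨W, hW, htW, hWle⟩ := exists_affine_le (j t') (u ⁻¹ᵁ V ⊓ j.opensRange) ⟨hVt, ⟨t', rfl⟩⟩
  have hWu : W ≤ u ⁻¹ᵁ V := hWle.trans inf_le_left
  have hW' : IsAffineOpen (j ⁻¹ᵁ W) := hW.preimage_of_isOpenImmersion j (hWle.trans inf_le_right)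
  have e' : j ⁻¹ᵁ W ≤ (j ≫ u) ⁻¹ᵁ V := fun x hx => hWu hx
  have h1 := (D.fibreEpi_iff (IsPullback.of_hasPullback f (j ≫ u)) hW' e' htW).1 (hu i t').1
  rw [D.fibreEpi_iff (IsPullback.of_hasPullback f u) hW hWu htW]
  letI : Algebra Γ(S, V) Γ(T, W) := sectionsAlg u hWu
  letI : Algebra Γ(S, V) Γ(𝒰.X i, j ⁻¹ᵁ W) := sectionsAlg (j ≫ u) e'
  have hbij : Function.Bijective (j.appLE W (j ⁻¹ᵁ W) le_rfl).hom := by
    have : IsIso (j.app W) := Scheme.Hom.isIso_app j W (hWle.trans inf_le_right)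
    rw [← Scheme.Hom.app_eq_appLE]
    exact ConcreteCategory.bijective_of_isIso (j.app W)
  let ψ := RingEquiv.ofBijective (j.appLE W (j ⁻¹ᵁ W) le_rfl).hom hbij
  letI : Algebra Γ(𝒰.X i, j ⁻¹ᵁ W) Γ(T, W) := ψ.symm.toRingHom.toAlgebra
  have : IsScalarTower Γ(S, V) Γ(𝒰.X i, j ⁻¹ᵁ W) Γ(T, W) := IsScalarTower.of_algebraMap_eq fun a => by
    change (u.appLE V W hWu).hom a = ψ.symm (((j ≫ u).appLE V (j ⁻¹ᵁ W) e').hom a)
    refine (ψ.symm_apply_eq.2 ?_).symm
    change _ = (j.appLE W (j ⁻¹ᵁ W) le_rfl).hom ((u.appLE V W hWu).hom a)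
    rw [← CommRingCat.comp_apply, Scheme.Hom.appLE_comp_appLE]
  rw [← Module.freeLocus_congr
    (TensorProduct.AlgebraTensorModule.cancelBaseChange Γ(S, V) Γ(𝒰.X i, j ⁻¹ᵁ W) Γ(T, W) Γ(T, W)
      D.Q₁)]
  refine Module.comap_freeLocus_le ?_
  show PrimeSpectrum.comap ψ.symm.toRingHom (hW.primeIdealOf ⟨j t', htW⟩) ∈
    Module.freeLocus Γ(𝒰.X i, j ⁻¹ᵁ W) (Γ(𝒰.X i, j ⁻¹ᵁ W) ⊗[Γ(S, V)] D.Q₁)
  rw [← IsAffineOpen.comap_primeIdealOf_appLE (f := j) W hW (j ⁻¹ᵁ W) hW' le_rfl htW,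
    ← PrimeSpectrum.comap_comp_apply]
  rw [show (j.appLE W (j ⁻¹ᵁ W) le_rfl).hom.comp (ψ.symm.toRingHom) = RingHom.id _ from
    RingHom.ext fun x => ψ.apply_symm_apply x, PrimeSpectrum.comap_id]
  exact h1

/-- Near every point the condition is cut out by an immersion. -/
theorem exists_local_stratum (s : S) :
    ∃ V : S.Opens, s ∈ V ∧ ∃ (Z : Scheme.{u}) (e : Z ⟶ V),
      IsImmersion e ∧ QuasiCompact e ∧ LocallyOfFinitePresentation e ∧
        ∀ (T : Scheme.{u}) (g : T ⟶ V), (∃ h : T ⟶ Z, h ≫ e = g) ↔ Cond f F r T (g ≫ V.ι) := by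
  obtain ⟨V, hV, hs, -⟩ := exists_affine_le s ⊤ trivial
  obtain ⟨D⟩ := nonempty_fam hF hfl hV
  have := D.fp₀
  have := D.fp₁
  have := D.proj₀
  have hx : hV.primeIdealOf ⟨s, hs⟩ ∈ Module.freeLocus Γ(S, V) D.Q₀ := by
    rw [Module.freeLocus_eq_univ]; trivial
  obtain ⟨O, hO, hsO, hconst⟩ := exists_open_fdim_eq hx
  obtain ⟨a, hsa, -, ha⟩ := exists_basicOpen hV hs hO hsO
  let q₀ := fdim D.Q₀ (hV.primeIdealOf ⟨s, hs⟩)
  let p₀ := Module.finrank Γ(S, V) D.P₀
  -- the value of the rank and the fibre dimension of the first cokernel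
  have hrank : ∀ z (hz : z ∈ S.basicOpen a), CohIII.fiberRank f F 0 z + p₀ =
      q₀ + fdim D.Q₁ (hV.primeIdealOf ⟨z, S.basicOpen_le a hz⟩) := fun z hz => by
    have h := D.fiberRank_add (S.basicOpen_le a hz)
    rw [(hconst _ (ha z _ hz)).2] at h
    exact h
  by_cases hneg : r + p₀ < q₀
  · refine ⟨S.basicOpen a, hsa, ((⊥ : (S.basicOpen a).toScheme.Opens) : Scheme.{u}),
      (⊥ : (S.basicOpen a).toScheme.Opens).ι, inferInstance, ?_, inferInstance, fun T g => ⟨?_, ?_⟩⟩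
    · have : IsEmpty ((⊥ : (S.basicOpen a).toScheme.Opens) : Scheme.{u}) := ⟨fun x => x.2.elim⟩
      have : IsAffine (S.basicOpen a).toScheme := hV.basicOpen a
      exact quasiCompact_of_compactSpace _
    · rintro ⟨k, rfl⟩ t
      exact (k t).2.elim
    · intro hg
      have : IsEmpty T := ⟨fun t => by
        have h1 := hrank ((g ≫ (S.basicOpen a).ι) t) (g t).2
        have h2 := (hg t).2
        omega⟩
      exact ⟨(isInitialOfIsEmpty (X := T)).to _, (isInitialOfIsEmpty (X := T)).hom_ext _ _⟩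
  push Not at hneg
  let c := r + p₀ - q₀
  let C := Γ(S, S.basicOpen a)
  let ρ : Γ(S, V) →+* C := (S.presheaf.map (homOfLE (S.basicOpen_le a)).op).hom
  obtain ⟨Z, e, h1, h2, h3, huniv⟩ := exists_immersion_ideals (hV.basicOpen a)
    ((rankClosed (A := Γ(S, V)) D.Q₁ c).map ρ) ((rankOpen (A := Γ(S, V)) D.Q₁ c).map ρ)
    ((rankClosed_fg c).map ρ) ((rankOpen_fg c).map ρ)
  refine ⟨S.basicOpen a, hsa, Z, e, h1, h2, h3, fun T g => (huniv T g).trans ?_⟩
  -- translate on each affine chart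
  have chart : ∀ (W : T.Opens) (hW : IsAffineOpen W)
      (hle : W ≤ (g ≫ (S.basicOpen a).ι) ⁻¹ᵁ S.basicOpen a),
      (((rankClosed (A := Γ(S, V)) D.Q₁ c).map ρ).map
          ((g ≫ (S.basicOpen a).ι).appLE (S.basicOpen a) W hle).hom = ⊥ ∧
        ((rankOpen (A := Γ(S, V)) D.Q₁ c).map ρ).map
          ((g ≫ (S.basicOpen a).ι).appLE (S.basicOpen a) W hle).hom = ⊤) ↔
      ∀ t ∈ W, FibreEpi (pullback.snd f (g ≫ (S.basicOpen a).ι))
          ((Scheme.Modules.pullback (pullback.fst f (g ≫ (S.basicOpen a).ι))).obj F) t ∧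
        CohIII.fiberRank f F 0 ((g ≫ (S.basicOpen a).ι) t) = r := by
    intro W hW hle
    let u := g ≫ (S.basicOpen a).ι
    have e₀ : W ≤ u ⁻¹ᵁ V := hle.trans (u.preimage_mono (S.basicOpen_le a))
    letI : Algebra Γ(S, V) Γ(T, W) := sectionsAlg u e₀
    have hcomp : ((g ≫ (S.basicOpen a).ι).appLE (S.basicOpen a) W hle).hom.comp ρ =
        algebraMap Γ(S, V) Γ(T, W) := by
      change _ = (u.appLE V W e₀).hom
      rw [← CommRingCat.hom_comp, Scheme.Hom.map_appLE]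
    rw [Ideal.map_map, Ideal.map_map, hcomp, ← projective_rank_iff Γ(T, W) c]
    have hpt : ∀ (t : T) (ht : t ∈ W), fdim (Γ(T, W) ⊗[Γ(S, V)] D.Q₁) (hW.primeIdealOf ⟨t, ht⟩) =
        fdim D.Q₁ (hV.primeIdealOf ⟨u t, e₀ ht⟩) := fun t ht => by
      rw [fdim_baseChange]
      exact congrArg _ (IsAffineOpen.comap_primeIdealOf_appLE (f := u) V hV W hW e₀ ht)
    constructor
    · rintro ⟨hproj, hr⟩ t ht
      refine ⟨(D.fibreEpi_iff (IsPullback.of_hasPullback f u) hW e₀ ht).2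
        (by rw [Module.freeLocus_eq_univ]; trivial), ?_⟩
      have h4 := hr (hW.primeIdealOf ⟨t, ht⟩)
      rw [← Groth.FlatCxBase.fdim_eq_rankAtStalk, hpt t ht] at h4
      have h5 := hrank (u t) (hle ht)
      have : c + q₀ = r + p₀ := by omega
      change CohIII.fiberRank f F 0 (u t) = r
      omega
    · intro hall
      have hproj : Module.Projective Γ(T, W) (Γ(T, W) ⊗[Γ(S, V)] D.Q₁) :=
        Module.freeLocus_eq_univ_iff.1 (Set.eq_univ_of_forall fun p => by
          obtain ⟨t, ht, rfl⟩ := exists_primeIdealOf_eq hW p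
          exact (D.fibreEpi_iff (IsPullback.of_hasPullback f u) hW e₀ ht).1 (hall t ht).1)
      refine ⟨hproj, fun p => ?_⟩
      obtain ⟨t, ht, rfl⟩ := exists_primeIdealOf_eq hW p
      rw [← Groth.FlatCxBase.fdim_eq_rankAtStalk, hpt t ht]
      have h5 := hrank (u t) (hle ht)
      have h6 : CohIII.fiberRank f F 0 (u t) = r := (hall t ht).2
      omega
  refine ⟨fun hall t => ?_, fun hcond W hW hle => (chart W hW hle).2 fun t _ => hcond t⟩
  obtain ⟨W, hW, htW, hWle⟩ :=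
    exists_affine_le t ((g ≫ (S.basicOpen a).ι) ⁻¹ᵁ S.basicOpen a) (g t).2
  exact (chart W hW hWle).1 (hall W hW hWle) t htW

/-- The condition is the local freeness of given rank of the direct image together with universal
base change. -/
theorem cond_iff (T : Scheme.{u}) (u : T ⟶ S) :
    Cond f F r T u ↔
      (FlatMod.IsFinLocFreeOfRank r
          ((Scheme.Modules.pushforward (pullback.snd f u)).obj
            ((Scheme.Modules.pullback (pullback.fst f u)).obj F)) ∧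
        ∀ ⦃X'' T' : Scheme.{u}⦄ (v' : X'' ⟶ pullback f u) (f'' : X'' ⟶ T') (u' : T' ⟶ T)
          (h : IsPullback v' f'' (pullback.snd f u) u'),
          IsIso (CohBC.bc0 (pullback.snd f u) u' f'' v' h.w
            ((Scheme.Modules.pullback (pullback.fst f u)).obj F))) := by
  have hsq := IsPullback.of_hasPullback f u
  have := QCohMod.isQCoh_pullback_obj (pullback.fst f u) F
  have hchart : ∀ t : T, ∃ (V : S.Opens) (hV : IsAffineOpen V) (_ : Fam f F hV) (W : T.Opens),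
      IsAffineOpen W ∧ t ∈ W ∧ W ≤ u ⁻¹ᵁ V := by
    intro t
    obtain ⟨V, hV, hVt, -⟩ := exists_affine_le (u t) ⊤ trivial
    obtain ⟨W, hW, htW, hWle⟩ := exists_affine_le t (u ⁻¹ᵁ V) hVt
    exact ⟨V, hV, (nonempty_fam hF hfl hV).some, W, hW, htW, hWle⟩
  constructor
  · intro hc
    have hgood : ∀ t, GoodAt (pullback.snd f u)
        ((Scheme.Modules.pullback (pullback.fst f u)).obj F) t := fun t => by
      obtain ⟨V, hV, D, W, hW, htW, hWle⟩ := hchart t
      exact D.goodAt_of_fibreEpi hsq hW hWle htW (hc t).1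
    refine ⟨Groth.LocFree.isFinLocFreeOfRank_iff_finrank.2 ⟨isFinLocFree_of_good hgood, fun t => ?_⟩,
      fun X'' T' v' f'' u' h => isIso_bc0_of_good h fun z => hgood _⟩
    obtain ⟨V, hV, D, W, hW, htW, hWle⟩ := hchart t
    rw [finrank_stalk_of_goodAt (hgood t) (isFinLocFree_of_good hgood),
      D.fiberRank_baseChange hsq hW hWle htW]
    exact (hc t).2
  · rintro ⟨hfree, hbc⟩ t
    have hepi : FibreEpi (pullback.snd f u) ((Scheme.Modules.pullback (pullback.fst f u)).obj F) t := by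
      have := hbc _ _ _ (IsPullback.of_hasPullback (pullback.snd f u) (T.fromSpecResidueField t))
      exact @IsIso.epi_of_iso _ _ _ _ _ this
    refine ⟨hepi, ?_⟩
    obtain ⟨V, hV, D, W, hW, htW, hWle⟩ := hchart t
    have hg := D.goodAt_of_fibreEpi hsq hW hWle htW hepi
    rw [← D.fiberRank_baseChange hsq hW hWle htW,
      ← finrank_stalk_of_goodAt hg (Groth.LocFree.isFinLocFree_of_rank hfree)]
    exact Groth.LocFree.finrank_stalk hfree t

omit hF hfl in
/-- Over a field point every base change map is an epimorphism. -/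
theorem cond_field (hF : CohB1.IsFP F) (hfl : FlatMod.IsFlatOver f F) (s : S)
    (hs : CohIII.fiberRank f F 0 s = r) :
    Cond f F r (Spec (S.residueField s)) (S.fromSpecResidueField s) := by
  intro t
  refine ⟨?_, by rw [Scheme.fromSpecResidueField_apply]; exact hs⟩
  obtain ⟨V, hV, hVs, -⟩ := exists_affine_le s ⊤ trivial
  obtain ⟨D⟩ := nonempty_fam hF hfl hV
  have e : (⊤ : (Spec (S.residueField s)).Opens) ≤ S.fromSpecResidueField s ⁻¹ᵁ V := fun x _ => by
    change S.fromSpecResidueField s x ∈ V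
    rw [Scheme.fromSpecResidueField_apply]
    exact hVs
  rw [D.fibreEpi_iff (IsPullback.of_hasPullback f _) (isAffineOpen_top _) e (show t ∈ (⊤ : (Spec (S.residueField s)).Opens) from trivial)]
  have hK : IsField Γ(Spec (S.residueField s), ⊤) :=
    MulEquiv.isField (Field.toIsField (S.residueField s))
      (Scheme.ΓSpecIso (S.residueField s)).commRingCatIsoToRingEquiv.toMulEquiv
  letI := hK.toField
  have := D.fp₁
  rw [Module.freeLocus_eq_univ]
  trivial

/-- The stratum. -/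
theorem exists_rank_stratum :
    ∃ (Z : Scheme.{u}) (ι : Z ⟶ S), IsImmersion ι ∧ LocallyOfFinitePresentation ι ∧ QuasiCompact ι ∧
      (∀ (T : Scheme.{u}) (u : T ⟶ S), (∃ u' : T ⟶ Z, u' ≫ ι = u) ↔ Cond f F r T u) ∧
      Set.range ι = {s : S | CohIII.fiberRank f F 0 s = r} := by
  obtain ⟨Z, ι, h1, h2, h3, huniv⟩ := Groth.FlatStrata.exists_immersion_of_local (Cond f F r)
    (fun T T' h g hg => hg.comp hF hfl h g) (fun T g 𝒰 hg => Cond.of_cover hF hfl g 𝒰 hg)
    (exists_local_stratum hF hfl)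
  refine ⟨Z, ι, h1, h3, h2, huniv, Set.ext fun s => ⟨?_, fun hs => ?_⟩⟩
  · rintro ⟨z, rfl⟩
    exact ((huniv Z ι).1 ⟨𝟙 Z, Category.id_comp ι⟩ z).2
  · obtain ⟨k, hk⟩ := (huniv _ _).2 (cond_field hF hfl s hs)
    let z : Spec (S.residueField s) := IsLocalRing.closedPoint (S.residueField s)
    exact ⟨k z, by rw [← Scheme.Hom.comp_apply, hk, Scheme.fromSpecResidueField_apply]⟩

end Groth.Limits.BC0
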