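import Groth.Agent.Limits.BC0.RankStratum

/-!
# The rank condition on an arbitrary cartesian square
-/

universe u

open CategoryTheory Limits AlgebraicGeometry TopologicalSpace Opposite
open Groth.CohC3.BC

set_option maxHeartbeats 800000
set_option backward.isDefEq.respectTransparency false
set_option backward.defeqAttrib.useBackward true
set_option backward.isDefEq.respectTransparency.types false

namespace Groth.Limits.BC0

variable {X S : Scheme.{u}} {f : X ⟶ S} {F : X.Modules} {r : ℕ} [IsProper f]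
  [LocallyOfFinitePresentation f] [F.IsQuasicoherent]

/-- The rank condition, read on any cartesian square. -/
theorem cond_iff_of_isPullback (hF : CohB1.IsFP F) (hfl : FlatMod.IsFlatOver f F) {XT T : Scheme.{u}}
    {u : T ⟶ S} {fT : XT ⟶ T} {gT : XT ⟶ X} (hsq : IsPullback gT fT f u) :
    Cond f F r T u ↔
      (FlatMod.IsFinLocFreeOfRank r
          ((Scheme.Modules.pushforward fT).obj ((Scheme.Modules.pullback gT).obj F)) ∧
        ∀ ⦃X'' T' : Scheme.{u}⦄ (v' : X'' ⟶ XT) (f'' : X'' ⟶ T') (u' : T' ⟶ T)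
          (h : IsPullback v' f'' fT u'),
          IsIso (CohBC.bc0 fT u' f'' v' h.w ((Scheme.Modules.pullback gT).obj F))) := by
  haveI : IsProper fT := MorphismProperty.of_isPullback hsq ‹IsProper f›
  have := QCohMod.isQCoh_pullback_obj gT F
  have := QCohMod.isQCoh_pullback_obj (pullback.fst f u) F
  have hpb := IsPullback.of_hasPullback f u
  have hchart : ∀ t : T, ∃ (V : S.Opens) (hV : IsAffineOpen V) (_ : Fam f F hV) (W : T.Opens),
      IsAffineOpen W ∧ t ∈ W ∧ W ≤ u ⁻¹ᵁ V := by
    intro t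
    obtain ⟨V, hV, hVt, -⟩ := exists_affine_le (u t) ⊤ trivial
    obtain ⟨W, hW, htW, hWle⟩ := exists_affine_le t (u ⁻¹ᵁ V) hVt
    exact ⟨V, hV, (nonempty_fam hF hfl hV).some, W, hW, htW, hWle⟩
  constructor
  · intro hc
    have hgood : ∀ t, GoodAt fT ((Scheme.Modules.pullback gT).obj F) t := fun t => by
      obtain ⟨V, hV, D, W, hW, htW, hWle⟩ := hchart t
      exact D.goodAt_of_fibreEpi hsq hW hWle htW
        ((D.fibreEpi_iff hsq hW hWle htW).2 ((D.fibreEpi_iff hpb hW hWle htW).1 (hc t).1))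
    refine ⟨Groth.LocFree.isFinLocFreeOfRank_iff_finrank.2 ⟨isFinLocFree_of_good hgood, fun t => ?_⟩,
      fun X'' T' v' f'' u' h => isIso_bc0_of_good h fun z => hgood _⟩
    obtain ⟨V, hV, D, W, hW, htW, hWle⟩ := hchart t
    rw [finrank_stalk_of_goodAt (hgood t) (isFinLocFree_of_good hgood),
      D.fiberRank_baseChange hsq hW hWle htW]
    exact (hc t).2
  · rintro ⟨hfree, hbc⟩ t
    have hepi : FibreEpi fT ((Scheme.Modules.pullback gT).obj F) t := by
      have := hbc _ _ _ (IsPullback.of_hasPullback fT (T.fromSpecResidueField t))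
      exact @IsIso.epi_of_iso _ _ _ _ _ this
    obtain ⟨V, hV, D, W, hW, htW, hWle⟩ := hchart t
    refine ⟨(D.fibreEpi_iff hpb hW hWle htW).2 ((D.fibreEpi_iff hsq hW hWle htW).1 hepi), ?_⟩
    rw [← D.fiberRank_baseChange hsq hW hWle htW, ← finrank_stalk_of_goodAt
      (D.goodAt_of_fibreEpi hsq hW hWle htW hepi) (Groth.LocFree.isFinLocFree_of_rank hfree)]
    exact Groth.LocFree.finrank_stalk hfree t

end Groth.Limits.BC0
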