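import Groth.Agent.Limits.BC0.Chart
import Groth.Agent.Abvar.Seesaw.GeomInt
import Groth.Agent.Abvar.Seesaw.Variety
import Groth.Agent.PicAux.PushPull
import Groth.Agent.EulerDeg.FiniteSupport
import Groth.Agent.CohBase.AffineBC
import Groth.Agent.PicAux.SeesawReduced

/-!
# A criterion for being a pullback from the base

For a proper flat morphism with geometrically integral fibres an invertible module is a pullback
from the base iff it and its inverse have nonzero sections on the fibres that lift.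
-/

universe u

open CategoryTheory Limits AlgebraicGeometry TopologicalSpace Opposite
open Groth.PicAux Groth.Abvar.Seesaw
open scoped TensorProduct

set_option backward.isDefEq.respectTransparency false
set_option backward.defeqAttrib.useBackward true
set_option backward.isDefEq.respectTransparency.types false

namespace Groth.Limits.BC0.SeesawCrit

variable {P B : Scheme.{u}} (π : P ⟶ B)

noncomputable local instance overResidueFieldSeesaw (y : B) :
    (π.fiber y).Over (Spec (CommRingCat.of (B.residueField y))) :=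
  ⟨π.fiberToSpecResidueField y⟩

/-- The fibre over a point of an open lies over it. -/
theorem top_le_preimage {V : B.Opens} {y : B} (hy : y ∈ V) :
    (⊤ : (π.fiber y).Opens) ≤ π.fiberι y ⁻¹ᵁ (π ⁻¹ᵁ V) := fun z _ => by
  show π (π.fiberι y z) ∈ V
  rw [← Scheme.Hom.comp_apply, Scheme.Hom.fiber_fac, Scheme.Hom.comp_apply,
    Scheme.fromSpecResidueField_apply]
  exact hy

/-- Nonzero sections of a module and of its inverse on an integral fibre trivialise it. -/
theorem fibTriv_of_sections {y : B} [IsIntegral (π.fiber y)] (h0 : H0Const π y) {L N : P.Modules}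
    (hL : PicF.IsInvertible L) (hN : PicF.IsInvertible N)
    (ι : CohB1.tensorMod N L ≅ Coh.structureModule P)
    {s : Γ((Scheme.Modules.pullback (π.fiberι y)).obj L, ⊤)} (hs : s ≠ 0)
    {s' : Γ((Scheme.Modules.pullback (π.fiberι y)).obj N, ⊤)} (hs' : s' ≠ 0) :
    FibTriv π L y := by
  let K := B.residueField y
  obtain ⟨eT, -⟩ := exists_pullback_tensorMod (π.fiberι y) N L
  let ιx : CohB1.tensorMod ((Scheme.Modules.pullback (π.fiberι y)).obj N)
      ((Scheme.Modules.pullback (π.fiberι y)).obj L) ≅ Coh.structureModule (π.fiber y) :=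
    eT.symm ≪≫ (Scheme.Modules.pullback (π.fiberι y)).mapIso ι ≪≫
      (pullback_structure_iso (π.fiberι y)).some
  have hL' := isInvertible_pullback (π.fiberι y) hL
  have hN' := isInvertible_pullback (π.fiberι y) hN
  let a := homOfSection s
  let b := homOfSection s'
  let c := SecTwist.tmulHom b a ≫ ιx.hom
  have hc : CohB1.genLocus _ c = CohB1.genLocus _ b ⊓ CohB1.genLocus _ a := by
    rw [genLocus_comp_iso, genLocus_tmulHom hN' hL']
  have hne' : CohB1.genLocus _ c ≠ ⊥ := by
    rw [hc]
    intro he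
    obtain ⟨z, hz⟩ := nonempty_preirreducible_inter (CohB1.genLocus _ b).isOpen
      (CohB1.genLocus _ a).isOpen (genLocus_nonempty hN' hs') (genLocus_nonempty hL' hs)
    exact (he.le hz).elim
  have hc0 : gsec c ≠ 0 := fun h => hne' (eq_bot_iff.2 fun z hz => by
    have hg := (le_genLocus_iff c _).1 le_rfl
    rw [h, Groth.PicAux.res_zero] at hg
    have h1 := hg.smul_inj (le_refl (CohB1.genLocus _ c)) (r := 1) (r' := 0) (by simp)
    have h2 := ((π.fiber y).toRingedSpace.mem_basicOpen
      (1 : Γ(π.fiber y, CohB1.genLocus _ c)) z hz).2 (by rw [map_one]; exact isUnit_one)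
    rw [h1] at h2
    exact ((π.fiber y).basicOpen_zero _).le h2)
  have hct : (⊤ : (π.fiber y).Opens) ≤ CohB1.genLocus _ c := by
    rw [le_genLocus_iff, Groth.PicAux.res_self]
    exact gen_of_ne_zero (K := K) h0 ⟨Iso.refl _⟩ hc0
  rw [hc, le_inf_iff, le_genLocus_iff, le_genLocus_iff] at hct
  exact nonempty_iso_structure_iff.2 ⟨_, hct.2⟩

/-- A trivial fibre has a one-dimensional space of sections. -/
theorem fiberRank_eq_one {y : B} (h0 : H0Const π y) {L : P.Modules} (ht : FibTriv π L y) :
    CohIII.fiberRank π L 0 y = 1 := by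
  let K := B.residueField y
  let M := CohIII.fiberMod π L y
  obtain ⟨σ, hσ⟩ := nonempty_iso_structure_iff.1 ht
  letI := Groth.EulerDeg.secModule K (X := π.fiber y) M (⊤ : (π.fiber y).Opens)
  have hb : Function.Bijective fun a : K => (a • σ : Γ(M, (⊤ : (π.fiber y).Opens))) := by
    have h1 : Function.Bijective fun r : Γ(π.fiber y, (⊤ : (π.fiber y).Opens)) => r • σ := by
      simpa using hσ ⊤ le_rfl
    have h2 : (fun a : K => (a • σ : Γ(M, (⊤ : (π.fiber y).Opens)))) =
        (fun r : Γ(π.fiber y, (⊤ : (π.fiber y).Opens)) => r • σ) ∘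
          Coh.toGlobal (π.fiberToSpecResidueField y) := funext fun a => by
      rw [Groth.EulerDeg.smul_sec]
      exact congrArg (· • σ) (resX_self le_rfl _)
    rw [h2]
    exact h1.comp h0
  let e : K ≃ₗ[K] Γ(M, (⊤ : (π.fiber y).Opens)) :=
    LinearEquiv.ofBijective ((LinearMap.id (R := K) (M := K)).smulRight σ) hb
  exact (Groth.EulerDeg.h0Equiv K M).finrank_eq.trans (e.finrank_eq.symm.trans (Module.finrank_self K))

/-- Nonzero cohomology of degree zero of a fibre gives a nonzero section. -/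
theorem exists_section_ne_zero {y : B} {L : P.Modules} (h : Nontrivial (CohIII.fiberH π L y 0)) :
    ∃ s : Γ((Scheme.Modules.pullback (π.fiberι y)).obj L, ⊤), s ≠ 0 := by
  obtain ⟨a, ha⟩ := exists_ne (0 : CohIII.fiberH π L y 0)
  exact ⟨Groth.EulerDeg.h0Equiv (B.residueField y) (CohIII.fiberMod π L y) a,
    fun h0 => ha ((Groth.EulerDeg.h0Equiv (B.residueField y)
      (CohIII.fiberMod π L y)).map_eq_zero_iff.1 h0)⟩

variable [IsProper π]

/-- Liftable sections on the fibre come from sections near it. -/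
theorem exists_lift {L : P.Modules} [L.IsQuasicoherent] {y : B}
    (hne : Nontrivial (CohIII.fiberH π L y 0))
    (hepi : Epi (CohBC.bc0 π (B.fromSpecResidueField y) (π.fiberToSpecResidueField y)
      (π.fiberι y) (π.fiber_fac y) L)) :
    ∃ (V : B.Opens) (hy : y ∈ V) (m : Γ(L, π ⁻¹ᵁ V)),
      res _ (top_le_preimage π hy) (pullSec (π.fiberι y) L m) ≠ 0 := by
  obtain ⟨_, ⟨V, hV, rfl⟩, hy, -⟩ :=
    B.isBasis_affineOpens.exists_subset_of_mem_open (Set.mem_univ y) isOpen_univ
  refine ⟨V, hy, ?_⟩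
  by_contra hall
  push Not at hall
  obtain ⟨w, hw⟩ := exists_section_ne_zero π hne
  let g := B.fromSpecResidueField y
  let f' := π.fiberToSpecResidueField y
  let R := (Scheme.Modules.pushforward π).obj L
  have : R.IsQuasicoherent := QCohMod.isQCoh_pushforward L π
  have := QCohMod.isQCoh_pullback_obj g R
  have := QCohMod.isQCoh_pullback_obj (π.fiberι y) L
  have : IsProper f' := MorphismProperty.pullback_snd (P := @IsProper) _ _ ‹_›
  have := QCohMod.isQCoh_pushforward ((Scheme.Modules.pullback (π.fiberι y)).obj L) f'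
  let φ := CohBC.bc0 π g f' (π.fiberι y) (π.fiber_fac y) L
  have : Epi φ := hepi
  obtain ⟨z, hz⟩ := Groth.QCohMod.app_surjective_of_epi φ (isAffineOpen_top _)
    (show Γ((Scheme.Modules.pushforward f').obj ((Scheme.Modules.pullback (π.fiberι y)).obj L), ⊤)
      from w)
  refine hw (hz.symm.trans ?_)
  have e : (⊤ : (Spec (B.residueField y)).Opens) ≤ g ⁻¹ᵁ V := fun x _ => by
    show g x ∈ V
    rw [Scheme.fromSpecResidueField_apply]
    exact hy
  letI : Algebra Γ(B, V) Γ(Spec (B.residueField y), ⊤) := Groth.QCohMod.sectionsAlg g e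
  obtain ⟨t, rfl⟩ := (Groth.QCohMod.pullSecTensor_bijective g R e hV (isAffineOpen_top _)).2 z
  let Φ : Γ(Spec (B.residueField y), ⊤) ⊗[Γ(B, V)] Γ(R, V) →+
      Γ((Scheme.Modules.pushforward f').obj ((Scheme.Modules.pullback (π.fiberι y)).obj L), ⊤) :=
    (φ.app ⊤).hom.comp (Groth.QCohMod.pullSecTensor g R e).toAddMonoidHom
  change Φ t = 0
  clear hz
  induction t using TensorProduct.induction_on with
  | zero => exact map_zero Φ
  | add a b ha hb => exact (map_add Φ a b).trans ((congrArg₂ (· + ·) ha hb).trans (add_zero 0))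
  | tmul a m =>
    change φ.app ⊤ (Groth.QCohMod.pullSecTensor g R e (a ⊗ₜ m)) = 0
    rw [Groth.QCohMod.pullSecTensor_tmul, φ.app_smul]
    have key := Groth.CohBase.AffineBC.bcHom_pullSec (π.fiber_fac y) L
      (V := V) (V' := (⊤ : (Spec (B.residueField y)).Opens)) e (top_le_preimage π hy)
      (show Γ(L, π ⁻¹ᵁ V) from m)
    refine (congrArg (a • ·) key).trans ?_
    exact (congrArg (fun u : Γ((Scheme.Modules.pushforward f').obj
      ((Scheme.Modules.pullback (π.fiberι y)).obj L), ⊤) => a • u)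
        (hall (show Γ(L, π ⁻¹ᵁ V) from m))).trans (smul_zero a)

/-- Sections lifting nonzero sections of trivial fibres generate nearby. -/
theorem exists_gen {L : P.Modules} (hL : PicF.IsInvertible L) {y : B} (h0 : H0Const π y)
    (ht : FibTriv π L y) {V : B.Opens} (hy : y ∈ V) (m : Γ(L, π ⁻¹ᵁ V))
    (hm : res _ (top_le_preimage π hy) (pullSec (π.fiberι y) L m) ≠ 0) :
    ∃ V' : B.Opens, y ∈ V' ∧ ∃ s : Γ(L, π ⁻¹ᵁ V'), Gen L _ s := by
  let k := π.fiberι y
  let σ := res _ (top_le_preimage π hy) (pullSec k L m)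
  have hσ : Gen _ ⊤ σ := gen_of_ne_zero (K := B.residueField y) h0 ht hm
  have hex : ∀ z : π.fiber y, ∃ (W : P.Opens) (hW : W ≤ π ⁻¹ᵁ V), k z ∈ W ∧
      Gen L W (res L hW m) :=
    Groth.PicAux.Seesaw.exists_gen_near k hL m (top_le_preimage π hy) hσ
  choose W hW hzW hgW using hex
  let W' : P.Opens := ⨆ z, W z
  have hW' : W' ≤ π ⁻¹ᵁ V := iSup_le hW
  have hg' : Gen L W' (res L hW' m) :=
    Gen.of_cover W (fun z => le_iSup W z) le_rfl fun z => by
      rw [Groth.PicAux.res_res]
      exact hgW z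
  have hcl : IsClosed (π '' ((W' : Set P)ᶜ)) := π.isClosedMap _ W'.isOpen.isClosed_compl
  let V' : B.Opens := ⟨(π '' ((W' : Set P)ᶜ))ᶜ, hcl.isOpen_compl⟩
  have hle : π ⁻¹ᵁ V' ≤ W' := fun x hx => by
    by_contra hxW
    exact hx ⟨x, hxW, rfl⟩
  refine ⟨V', ?_, _, hg'.res hle⟩
  rintro ⟨x, hxW, hxy⟩
  obtain ⟨z, rfl⟩ : x ∈ Set.range k := by
    rw [Scheme.Hom.range_fiberι]
    exact hxy
  exact hxW (Opens.mem_iSup.2 ⟨z, hzW z⟩)

omit [IsProper π] in
/-- A local generator makes the base change map to the fibre an epimorphism. -/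
theorem fibreEpi_of_gen {L : P.Modules} {y : B} (h0 : H0Const π y) {V : B.Opens} (hy : y ∈ V)
    {m : Γ(L, π ⁻¹ᵁ V)} (hm : Gen L _ m) : FibreEpi π L y := by
  let g := B.fromSpecResidueField y
  let f' := π.fiberToSpecResidueField y
  let M := CohIII.fiberMod π L y
  refine Groth.QCohMod.epi_of_affine_surjective _ fun U hU w => ?_
  by_cases hU0 : IsLocalRing.closedPoint (B.residueField y) ∈ U
  swap
  · refine ⟨0, ?_⟩
    have hbot : f' ⁻¹ᵁ U ≤ ⨆ _ : PEmpty.{1}, (⊥ : (π.fiber y).Opens) := fun z hz =>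
      absurd (show IsLocalRing.closedPoint (B.residueField y) ∈ U by
        rwa [← Subsingleton.elim (f' z) (IsLocalRing.closedPoint (B.residueField y))]) hU0
    exact res_ext (M := M) (U := f' ⁻¹ᵁ U) (fun _ : PEmpty.{1} => (⊥ : (π.fiber y).Opens))
      (fun i => i.elim) hbot fun i => i.elim
  obtain rfl : U = ⊤ := eq_top_iff.2 fun z _ =>
    Subsingleton.elim (IsLocalRing.closedPoint (B.residueField y)) z ▸ hU0
  have e : (⊤ : (Spec (B.residueField y)).Opens) ≤ g ⁻¹ᵁ V := fun x _ => by
    show g x ∈ V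
    rw [Scheme.fromSpecResidueField_apply]
    exact hy
  have hσ := (hm.pull (π.fiberι y)).res (top_le_preimage π hy)
  obtain ⟨r, hr⟩ := hσ.exists_coeff le_rfl (show Γ(M, (⊤ : (π.fiber y).Opens)) from w)
  rw [Groth.PicAux.res_self] at hr
  obtain ⟨a, rfl⟩ := h0.2 r
  refine ⟨(show Γ(Spec (B.residueField y), ⊤) from (Scheme.ΓSpecIso (B.residueField y)).inv a) •
    QCohMod.res _ e (pullSec g ((Scheme.Modules.pushforward π).obj L)
      (show Γ((Scheme.Modules.pushforward π).obj L, V) from m)), ?_⟩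
  have key := Groth.CohBase.AffineBC.bcHom_pullSec (π.fiber_fac y) L
    (V := V) (V' := (⊤ : (Spec (B.residueField y)).Opens)) e (top_le_preimage π hy) m
  refine ((CohBC.bc0 π _ f' _ (π.fiber_fac y) L).app_smul _ _).trans ?_
  exact (congrArg ((show Γ(Spec (B.residueField y), ⊤) from
    (Scheme.ΓSpecIso (B.residueField y)).inv a) • ·) key).trans hr.symm

end Groth.Limits.BC0.SeesawCrit
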