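import Groth.Agent.CohC3.BC.Translate
import Groth.Agent.CohC3.FullyFaithful
import Groth.Agent.CohBase.AffineBC

/-!
# The base change map of direct images in terms of a model
-/

universe u

open CategoryTheory Limits AlgebraicGeometry TopologicalSpace Opposite
open scoped TensorProduct
open Groth.CohBase Groth.CohCmpLib Groth.CohC3.BC
open Groth.QCohMod (sectionsAlg pullSecTensor pullSecTensor_tmul pullSecTensor_bijective)
open Groth.PicAux (pullSec)

set_option maxHeartbeats 800000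
set_option backward.isDefEq.respectTransparency false
set_option backward.defeqAttrib.useBackward true
set_option backward.isDefEq.respectTransparency.types false

namespace Groth.Limits.BC0

section Sections

variable {X S : Scheme.{u}} (f : X ⟶ S) (F : X.Modules) (V : S.Opens)

/-- Sections over a preimage from classes of degree zero. -/
lemma sectH0_symm_apply (U : X.Opens) (x : Coh.HHon X F U 0) :
    (CohPull.sectH0 F U).symm x =
      QCohMod.res F (U.ι_image_top.ge) (CohC3.secEquiv₀ (F.restrict U.ι) x : Γ(F, U.ι ''ᵁ ⊤)) := by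
  rfl

/-- Sections of the direct image as cohomology of degree zero, linearly. -/
noncomputable def sec0Equiv :
    CohFin.HA (preimageToSpec f (V := V)) (F.restrict (f ⁻¹ᵁ V).ι) 0 ≃ₗ[Γ(S, V)]
      Γ((Scheme.Modules.pushforward f).obj F, V) where
  toFun x := (CohPull.sectH0 F (f ⁻¹ᵁ V)).symm x
  invFun s := CohPull.sectH0 F (f ⁻¹ᵁ V) s
  left_inv x := (CohPull.sectH0 F (f ⁻¹ᵁ V)).apply_symm_apply x
  right_inv s := (CohPull.sectH0 F (f ⁻¹ᵁ V)).symm_apply_apply s
  map_add' := map_add _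
  map_smul' a x := by
    let U := f ⁻¹ᵁ V
    refine (sectH0_symm_apply F U _).trans ?_
    refine (congrArg (fun r : Γ(U.toScheme, ⊤) => QCohMod.res F (U.ι_image_top.ge)
      (CohC3.secEquiv₀ (F.restrict U.ι) (r • (show Coh.HH U.toScheme (F.restrict U.ι) 0 from x)) :
        Γ(F, U.ι ''ᵁ ⊤))) (Groth.Limits.FibreVanishing.globalMap_preimage f a)).trans ?_
    have hlin : ∀ (r : Γ(U.toScheme, ⊤)) (y : Coh.HH U.toScheme (F.restrict U.ι) 0),
        CohC3.secEquiv₀ (F.restrict U.ι) (r • y) =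
          r • CohC3.secEquiv₀ (F.restrict U.ι) y := by
      intro r y
      refine (Sheaf.H.equiv₀_naturality (Preorder.isTerminalTop U.toScheme.Opens)
        (Coh.smulAb (F.restrict U.ι) r) y).symm.trans ?_
      refine (Coh.smulAb_app _ _ _ _).trans ?_
      congr 1
      show (U.toScheme.ringCatSheaf.obj.map (𝟙 _)).hom r = r
      rw [U.toScheme.ringCatSheaf.obj.map_id]
      rfl
    rw [hlin]
    change _ = f.app V a • (CohPull.sectH0 F U).symm x
    rw [sectH0_symm_apply]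
    refine (Groth.CohTwo.res_smul F U.ι_image_top.ge _ _).trans (congrArg (· • _) ?_)
    change _ = (f.app V) a
    simp only [Groth.CohTwo.resR, Scheme.Opens.ι_appIso, Iso.refl_inv, Scheme.Opens.topIso_inv,
      ← CommRingCat.comp_apply, ← Functor.map_comp, CategoryTheory.Functor.map_id,
      CommRingCat.id_apply]
    change (X.presheaf.map (homOfLE U.ι_image_top.ge).op).hom
      ((X.presheaf.map (eqToHom U.ι_image_top).op).hom ((f.app V).hom a)) = (f.app V).hom a
    rw [← CommRingCat.comp_apply, ← Functor.map_comp,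
      Subsingleton.elim ((eqToHom U.ι_image_top).op ≫ (homOfLE U.ι_image_top.ge).op) (𝟙 (op U)),
      CategoryTheory.Functor.map_id]
    rfl

lemma sec0Equiv_apply (x : CohFin.HA (preimageToSpec f (V := V)) (F.restrict (f ⁻¹ᵁ V).ι) 0) :
    sec0Equiv f F V x =
      QCohMod.res F ((f ⁻¹ᵁ V).ι_image_top.ge)
        (CohC3.secEquiv₀ (F.restrict (f ⁻¹ᵁ V).ι) x : Γ(F, (f ⁻¹ᵁ V).ι ''ᵁ ⊤)) :=
  sectH0_symm_apply F _ x

end Sections

section Square

variable {X S : Scheme.{u}} {f : X ⟶ S} [QuasiCompact f] [QuasiSeparated f] {F : X.Modules}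
  [F.IsQuasicoherent] {V : S.Opens}
  (M : CohC3.BC.Model (preimageToSpec f (V := V)) (F.restrict (f ⁻¹ᵁ V).ι))

/-- Sections of the direct image as a kernel. -/
noncomputable def secEquiv0 :
    LinearMap.ker (M.d 0) ≃ₗ[Γ(S, V)] Γ((Scheme.Modules.pushforward f).obj F, V) :=
  (M.e₀ 0).trans (sec0Equiv f F V)

variable {X' S' : Scheme.{u}} {g : S' ⟶ S} {f' : X' ⟶ S'} {g' : X' ⟶ X}

include M in
/-- On an affine open over `V` the base change map is the base change map of kernels. -/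
theorem exists_bc0_app_eq (h : IsPullback g' f' f g) (hV : IsAffineOpen V) {U' : S'.Opens}
    (hU' : IsAffineOpen U') (e : U' ≤ g ⁻¹ᵁ V) :
    letI : Algebra Γ(S, V) Γ(S', U') := sectionsAlg g e
    ∃ (σ : Γ(S', U') ⊗[Γ(S, V)] LinearMap.ker (M.d 0) →
          Γ((Scheme.Modules.pullback g).obj ((Scheme.Modules.pushforward f).obj F), U'))
      (τ : LinearMap.ker ((M.d 0).baseChange Γ(S', U')) →ₗ[Γ(S', U')]
          Γ((Scheme.Modules.pushforward f').obj ((Scheme.Modules.pullback g').obj F), U')),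
      Function.Bijective σ ∧ Function.Bijective τ ∧
        ∀ z, (CohBC.bc0 f g f' g' h.w F).app U' (σ z) = τ (kerBC (M.d 0) Γ(S', U') z) := by
  letI : Algebra Γ(S, V) Γ(S', U') := sectionsAlg g e
  letI : ((f' ⁻¹ᵁ U' : X'.Opens) : Scheme.{u}).Over (Spec (CommRingCat.of Γ(S', U'))) :=
    ⟨preimageToSpec f'⟩
  let F' := (Scheme.Modules.pullback g').obj F
  let R := (Scheme.Modules.pushforward f).obj F
  have : R.IsQuasicoherent := QCohMod.isQCoh_pushforward F f
  have e' : f' ⁻¹ᵁ U' ≤ g' ⁻¹ᵁ (f ⁻¹ᵁ V) :=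
    (f'.preimage_mono e).trans (CohCmp.sqLE f g f' g' h.w V)
  let U₁ := f ⁻¹ᵁ V
  let U₂ := f' ⁻¹ᵁ U'
  let u := g'.resLE U₁ U₂ e'
  obtain ⟨eB, heB⟩ := M.exists_e Γ(S', U') (preimageToSpec f') u (isBC_resLE h hV hU' e e') 0
  let iso := CohPull.pullOnIso g' U₁ U₂ e' F
  let L := secEquiv0 M
  let σ : Γ(S', U') ⊗[Γ(S, V)] LinearMap.ker (M.d 0) → Γ((Scheme.Modules.pullback g).obj R, U') :=
    fun z => pullSecTensor g R e (LinearEquiv.lTensor Γ(S', U') L z)
  let τ : LinearMap.ker ((M.d 0).baseChange Γ(S', U')) →ₗ[Γ(S', U')]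
      Γ((Scheme.Modules.pushforward f').obj F', U') :=
    (sec0Equiv f' F' U').toLinearMap ∘ₗ (CohC3.hmap Γ(S', U') iso.hom 0) ∘ₗ eB.toLinearMap
  refine ⟨σ, τ, (pullSecTensor_bijective g R e hV hU').comp
      (LinearEquiv.lTensor Γ(S', U') L).bijective,
    (sec0Equiv f' F' U').bijective.comp
      ((CohC3.hmap_bijective_of_isIso (A := Γ(S', U')) iso.hom 0).comp eB.bijective), fun z => ?_⟩
  induction z using TensorProduct.induction_on with
  | zero =>
    refine (congrArg ((CohBC.bc0 f g f' g' h.w F).app U')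
      ((congrArg (pullSecTensor g R e) (map_zero (LinearEquiv.lTensor Γ(S', U') L))).trans
        (map_zero _))).trans ?_
    rw [map_zero, map_zero, map_zero]
  | add a b ha hb =>
    simp only [σ, map_add] at ha hb ⊢
    rw [ha, hb]
  | tmul a x =>
    let z₁ : LinearMap.ker ((M.d 0).baseChange Γ(S', U')) :=
      ⟨(1 : Γ(S', U')) ⊗ₜ x.1, by
        rw [LinearMap.mem_ker, LinearMap.baseChange_tmul, show M.d 0 x.1 = 0 from x.2,
          TensorProduct.tmul_zero]⟩
    have hk : kerBC (M.d 0) Γ(S', U') (a ⊗ₜ x) = a • z₁ := by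
      refine Subtype.ext ?_
      rw [kerBC_coe, LinearMap.baseChange_tmul, SetLike.val_smul, TensorProduct.smul_tmul',
        smul_eq_mul, mul_one]
      rfl
    have key : (CohBC.bc0 f g f' g' h.w F).app U' (QCohMod.res _ e (pullSec g R (L x))) = τ z₁ := by
      refine (Groth.CohBase.AffineBC.bcHom_pullSec h.w F e e' (L x)).trans ?_
      change _ = sec0Equiv f' F' U' (CohC3.hmap Γ(S', U') iso.hom 0 (eB z₁))
      rw [sec0Equiv_apply]
      have h1 : CohC3.secEquiv₀ (F'.restrict U₂.ι) (CohC3.hmap Γ(S', U') iso.hom 0 (eB z₁)) =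
          iso.hom.app ⊤ (pullSec u (F.restrict U₁.ι) (U := ⊤)
            (CohC3.secEquiv₀ (F.restrict U₁.ι) (M.e₀ 0 x))) := by
        refine (CohC3.secEquiv₀_hmap (A := Γ(S', U')) iso.hom _).trans (congrArg (iso.hom.app ⊤) ?_)
        refine (congrArg (CohC3.secEquiv₀ _) (heB x z₁ rfl)).trans ?_
        exact CohPull.equiv₀_pullMod u (F.restrict U₁.ι) (M.e₀ 0 x)
      refine Eq.trans ?_ (congrArg (fun t : Γ(F', U₂.ι ''ᵁ ⊤) =>
        QCohMod.res F' U₂.ι_image_top.ge t) h1).symm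
      let m : Γ(F, U₁.ι ''ᵁ ⊤) := CohC3.secEquiv₀ (F.restrict U₁.ι) (M.e₀ 0 x)
      have hm : QCohMod.res F U₁.ι_image_top.le (L x : Γ(F, U₁)) = m :=
        (congrArg (QCohMod.res F U₁.ι_image_top.le) (sec0Equiv_apply f F V (M.e₀ 0 x))).trans
          ((QCohMod.res_res F _ _ _).trans (QCohMod.res_self F m))
      have hW : U₂.ι ''ᵁ (u ⁻¹ᵁ ⊤) ≤ g' ⁻¹ᵁ U₁ := le_trans (le_of_eq U₂.ι_image_top) e'
      have h2 := pullOnIso_pullSec g' U₁ U₂ e' F (V := U₁) (L x : Γ(F, U₁)) ⊤
        U₁.ι_image_top.le hW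
      rw [hm] at h2
      refine Eq.trans ?_ (congrArg (fun t : Γ(F', U₂.ι ''ᵁ (u ⁻¹ᵁ ⊤)) =>
        QCohMod.res F' U₂.ι_image_top.ge t) h2).symm
      exact (QCohMod.res_res F' hW U₂.ι_image_top.ge _).symm
    refine ((congrArg ((CohBC.bc0 f g f' g' h.w F).app U') (pullSecTensor_tmul g R e a _)).trans
      ((CohBC.bc0 f g f' g' h.w F).app_smul a _)).trans ?_
    refine (congrArg (a • ·) key).trans ?_
    rw [hk, map_smul]

end Square

end Groth.Limits.BC0
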